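import Mathlib.AlgebraicGeometry.Morphisms.FormallyUnramified
import Mathlib.AlgebraicGeometry.Morphisms.QuasiFinite

/-!
A morphism locally of finite type whose base change along itself is unramified
(resp. locally quasi-finite) is unramified (resp. locally quasi-finite).
-/

set_option autoImplicit false
set_option backward.isDefEq.respectTransparency false

universe u

open CategoryTheory CategoryTheory.Limits AlgebraicGeometry MorphismProperty

namespace Groth.Agent.H14.Sep.SelfBC

theorem isOpenImmersion_of_section {X Y : Scheme.{u}} (p : X ⟶ Y) (s : Y ⟶ X) (h : s ≫ p = 𝟙 Y)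
    [FormallyUnramified p] [LocallyOfFiniteType p] : IsOpenImmersion s := by
  let Q : MorphismProperty Scheme.{u} := (@FormallyUnramified : MorphismProperty Scheme.{u}) ⊓
      (@LocallyOfFiniteType : MorphismProperty Scheme.{u})
  let P : MorphismProperty Scheme.{u} := @IsOpenImmersion
  have hd : Q ≤ P.diagonal := fun A B g hg => by
    have := hg.1
    have := hg.2
    exact (inferInstance : IsOpenImmersion (pullback.diagonal g))
  exact ((hasOfPostcompProperty_iff_le_diagonal (P := @IsOpenImmersion)
    (Q := (@FormallyUnramified : MorphismProperty Scheme.{u}) ⊓ (@LocallyOfFiniteType : MorphismProperty Scheme.{u}))).mpr hd).of_postcomp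
    s p ⟨‹_›, ‹_›⟩ (by rw [h]; infer_instance)

theorem formallyUnramified {U T : Scheme.{u}} (m : U ⟶ T) [LocallyOfFiniteType m]
    (h : FormallyUnramified (pullback.snd m m)) : FormallyUnramified m := by
  have := isOpenImmersion_of_section (pullback.snd m m) (pullback.diagonal m) (pullback.diagonal_snd m)
  infer_instance

theorem finite_preimage_singleton {U T : Scheme.{u}} (m : U ⟶ T) [QuasiCompact m]
    (h : LocallyQuasiFinite (pullback.snd m m)) (t : T) : (m ⁻¹' {t}).Finite := by
  by_cases he : (m ⁻¹' {t}).Nonempty
  · obtain ⟨u, hu⟩ := he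
    refine (((pullback.snd m m).finite_preimage_singleton u).image (pullback.fst m m)).subset ?_
    intro x hx
    obtain ⟨z, hz1, hz2⟩ := Scheme.Pullback.exists_preimage_pullback (f := m) (g := m) x u (hx.trans hu.symm)
    exact ⟨z, hz2, hz1⟩
  · rw [Set.not_nonempty_iff_eq_empty.1 he]; exact Set.finite_empty

theorem locallyQuasiFinite {U T : Scheme.{u}} (m : U ⟶ T) [LocallyOfFiniteType m]
    (h : LocallyQuasiFinite (pullback.snd m m)) : LocallyQuasiFinite m := by
  rw [IsZariskiLocalAtTarget.iff_of_openCover (P := @LocallyQuasiFinite) T.affineCover]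
  intro i
  let ι := T.affineCover.f i
  show LocallyQuasiFinite (pullback.snd m ι)
  rw [IsZariskiLocalAtSource.iff_of_openCover (P := @LocallyQuasiFinite) (pullback m ι).affineCover]
  intro j
  let a := (pullback m ι).affineCover.f j
  let m' := a ≫ pullback.snd m ι
  let c := a ≫ pullback.fst m ι
  have hc : IsOpenImmersion c := inferInstance
  refine LocallyQuasiFinite.of_finite_preimage_singleton m' (finite_preimage_singleton m' ?_)
  -- `V ×_{T'} V` is open in `U ×_T U`
  have hw : c ≫ m = m' ≫ ι := by simp [c, m', pullback.condition]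
  let k : pullback m' m' ⟶ pullback m m :=
    pullback.map m' m' m m c c ι hw.symm hw.symm
  have hk : IsOpenImmersion k := inferInstance
  have hk2 : k ≫ pullback.snd m m = pullback.snd m' m' ≫ c := by simp [k]
  have : LocallyQuasiFinite (pullback.snd m' m' ≫ c) := by
    rw [← hk2]; infer_instance
  exact LocallyQuasiFinite.of_comp _ c

end Groth.Agent.H14.Sep.SelfBC
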