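import Groth.Agent.H14.Sep.Descend
import Mathlib.AlgebraicGeometry.Morphisms.QuasiFinite

/-!
Local quasi-finiteness of morphisms locally of finite type descends along surjective morphisms
(after reducing to quasi-compact pieces).
-/

set_option autoImplicit false
set_option backward.isDefEq.respectTransparency false

universe u

open CategoryTheory CategoryTheory.Limits AlgebraicGeometry MorphismProperty

namespace Groth.Agent.H14.Sep.LqfDescend

theorem finite_preimage_singleton {U T T' : Scheme.{u}} (m : U ⟶ T) [QuasiCompact m] (s : T' ⟶ T)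
    [Surjective s] (h : LocallyQuasiFinite (pullback.snd m s)) (t : T) : (m ⁻¹' {t}).Finite := by
  obtain ⟨t', ht'⟩ := s.surjective t
  refine (((pullback.snd m s).finite_preimage_singleton t').image (pullback.fst m s)).subset ?_
  intro x hx
  obtain ⟨z, hz1, hz2⟩ :=
    Scheme.Pullback.exists_preimage_pullback (f := m) (g := s) x t' (hx.trans ht'.symm)
  exact ⟨z, hz2, hz1⟩

theorem locallyQuasiFinite {X' T' U T : Scheme.{u}} {g' : X' ⟶ U} {m' : X' ⟶ T'}
    {m : U ⟶ T} {s : T' ⟶ T} (sq : IsPullback g' m' m s) [Surjective s] [LocallyOfFiniteType m]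
    (h : LocallyQuasiFinite m') : LocallyQuasiFinite m := by
  have hs : LocallyQuasiFinite (pullback.snd m s) := by
    rw [← sq.isoPullback_inv_snd]; infer_instance
  rw [IsZariskiLocalAtTarget.iff_of_openCover (P := @LocallyQuasiFinite) T.affineCover]
  intro i
  let ι := T.affineCover.f i
  show LocallyQuasiFinite (pullback.snd m ι)
  rw [IsZariskiLocalAtSource.iff_of_openCover (P := @LocallyQuasiFinite) (pullback m ι).affineCover]
  intro j
  let a := (pullback m ι).affineCover.f j
  let m₁ := a ≫ pullback.snd m ι
  let c := a ≫ pullback.fst m ι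
  let s₁ := pullback.snd s ι
  refine LocallyQuasiFinite.of_finite_preimage_singleton m₁ (finite_preimage_singleton m₁ s₁ ?_)
  have hw : c ≫ m = m₁ ≫ ι := by simp [c, m₁, pullback.condition]
  let k : pullback m₁ s₁ ⟶ pullback m s :=
    pullback.map m₁ s₁ m s c (pullback.fst s ι) ι hw.symm pullback.condition.symm
  have hk : IsOpenImmersion k := inferInstance
  have hk2 : k ≫ pullback.snd m s = pullback.snd m₁ s₁ ≫ pullback.fst s ι := by simp [k]
  have : LocallyQuasiFinite (pullback.snd m₁ s₁ ≫ pullback.fst s ι) := by
    rw [← hk2]; infer_instance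
  exact LocallyQuasiFinite.of_comp _ (pullback.fst s ι)

end Groth.Agent.H14.Sep.LqfDescend
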