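import Groth.Agent.H14.Sep.Inertia
import Groth.Agent.H14.Sep.LqfDescend
import Groth.Agent.Lib.AlgSpMor.Sep
import Groth.Agent.Lib.AlgSpMor.Proper

/-!
Properties of morphisms of algebraic spaces over a scheme descend along fppf covers of that scheme;
properties of diagonals of morphisms of stacks descend along fppf covers of the target.
-/

set_option autoImplicit false
set_option backward.isDefEq.respectTransparency false
set_option backward.isDefEq.respectTransparency.types false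

universe u

open CategoryTheory CategoryTheory.Limits AlgebraicGeometry

namespace Groth.Agent.H14.Sep.Cover

open Groth.Agent.Lib.AlgStack
open SpProps DiagCat Main
open FibCat (IsEquivOver fp fpFst fpSnd fpLift fpIso diag overCat IsFibGrpd toSelf)
open AlgSt (ofSp ofSpMap ofOverCat toOverCat spMapOfOver RepByAlgSp1 RepByAlgSpWith IsAlgStack)
open AlgSp (Sp yon IsAlgSpace LocP RepWith Points UnivSp)

variable {S : Scheme.{u}}

/-- An fppf cover of schemes over the base. -/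
def Fppf {T' T : Over S} (s : T' ⟶ T) : Prop :=
  Flat s.left ∧ LocallyOfFinitePresentation s.left ∧ Surjective s.left

section Sp

variable {G : Sp S} {T' T : Over S} {γ : G ⟶ (yon S).obj T} {s : T' ⟶ T}

theorem Fppf.fppfCover (hs : Fppf s) : Lib.AlgSpace.fppfCover s.left := by
  have := hs.1; have := hs.2.1; have := hs.2.2
  exact Lib.AlgSpace.fppfCover_mk s.left

theorem Fppf.univOpen (hs : Fppf s) : RepWith @UniversallyOpen ((yon S).map s) := by
  have := hs.1; have := hs.2.1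
  exact (AlgSp.repWith_yon_map_iff _ _).2 inferInstance

theorem Fppf.surj (hs : Fppf s) : RepWith @Surjective ((yon S).map s) :=
  (AlgSp.repWith_yon_map_iff _ _).2 hs.2.2

theorem locP_descend {W : MorphismProperty Scheme.{u}}
    (hW : Lib.SourceDescent.Scheme.EtaleLocalST W) (hG : IsAlgSpace G) (hs : Fppf s)
    (hd : ∀ ⦃X' Y' X Y : Scheme.{u}⦄ {g' : X' ⟶ X} {f' : X' ⟶ Y'} {f : X ⟶ Y} {g : Y' ⟶ Y},
      IsPullback g' f' f g → Flat g → LocallyOfFinitePresentation g → Surjective g → W f' → W f)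
    (h : LocP W (pullback.snd γ ((yon S).map s))) : LocP W γ := by
  obtain ⟨U, c, hc, hcs⟩ := hG.atlas
  obtain ⟨m, hm⟩ := (yon S).map_surjective (c ≫ γ)
  refine Lib.AlgSpMor.LocP.locP_of_chart hW hG.diag (IsAlgSpace.yon_obj T).diag hc hcs (b := 𝟙 _)
    (h := m) (AlgSp.repWith_id _ _) (by rw [Category.comp_id, hm]) ?_
  obtain ⟨U', fst, snd, sqU⟩ :=
    Lib.AlgSpace.exists_isPullback_yon (IsAlgSpace.yon_obj T).diag ((yon S).map m) ((yon S).map s)
  let c' : (yon S).obj U' ⟶ pullback γ ((yon S).map s) :=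
    pullback.lift ((yon S).map fst ≫ c) ((yon S).map snd) (by rw [Category.assoc, ← hm, sqU.w])
  have sqc : IsPullback ((yon S).map fst) c' c (pullback.fst γ ((yon S).map s)) :=
    IsPullback.of_bot (by simpa [c', hm] using sqU) (by simp [c']) (IsPullback.of_hasPullback _ _)
  have h' : W snd.left := h c' (𝟙 _) snd
    (Lib.AlgSpace.repWith_baseChange sqc hc) (AlgSp.repWith_id _ _)
    (by rw [Category.comp_id]; simp [c'])
  exact hd ((Lib.AlgSpace.isPullback_of_yon_map sqU).map (Over.forget S)) hs.1 hs.2.1 hs.2.2 h'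

theorem repWith_diagonal_descend (P : MorphismProperty Scheme.{u}) [P.IsStableUnderBaseChange]
    [P.IsLocalAtTarget Scheme.fppfPrecoverage] (hG : IsAlgSpace G) (hs : Fppf s)
    (h : RepWith P (pullback.diagonal (pullback.snd γ ((yon S).map s)))) :
    RepWith P (pullback.diagonal γ) := by
  let p := (yon S).map s
  have sq := IsPullback.of_hasPullback γ p
  have e : IsPullback (pullback.map (pullback.snd γ p) (pullback.snd γ p) γ γ (pullback.fst γ p)
        (pullback.fst γ p) p sq.w.symm sq.w.symm)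
      (pullback.fst (pullback.snd γ p) (pullback.snd γ p) ≫ pullback.snd γ p)
      (pullback.fst γ γ ≫ γ) p := by
    have h1 := (IsPullback.of_hasPullback (pullback.snd γ p) (pullback.snd γ p)).flip.paste_horiz sq
    rw [← sq.w] at h1
    have h2 : pullback.snd (pullback.snd γ p) (pullback.snd γ p) ≫ pullback.fst γ p =
        pullback.map (pullback.snd γ p) (pullback.snd γ p) γ γ (pullback.fst γ p)
          (pullback.fst γ p) p sq.w.symm sq.w.symm ≫ pullback.snd γ γ := by simp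
    rw [h2] at h1
    exact (IsPullback.of_right h1 (by simp) (IsPullback.of_hasPullback γ γ).flip).paste_vert sq
  have : Sheaf.IsLocallySurjective (pullback.map (pullback.snd γ p) (pullback.snd γ p) γ γ
      (pullback.fst γ p) (pullback.fst γ p) p sq.w.symm sq.w.symm) :=
    Lib.AlgSpace.isLocallySurjective_of_repWith
      (Lib.AlgSpace.repWith_baseChange e.flip ((AlgSp.repWith_yon_map_iff _ _).2 hs.1))
      (Lib.AlgSpace.repWith_baseChange e.flip ((AlgSp.repWith_yon_map_iff _ _).2 hs.2.1))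
      (Lib.AlgSpace.repWith_baseChange e.flip hs.surj)
  exact Lib.AlgSpace.repWith_of_isLocallySurjective (Lib.AlgSpMor.Sep.representable_diagonal γ hG.diag)
    _ (Lib.AlgSpMor.Sep.isPullback_diagonal_map sq) P h

theorem qc_descend (hG : IsAlgSpace G) (hs : Fppf s)
    (h : AlgSp.IsQuasiCompactMor (pullback.snd γ ((yon S).map s))) : AlgSp.IsQuasiCompactMor γ :=
  Lib.AlgSpMor.QC.isQuasiCompactMor_of_cover (IsPullback.of_hasPullback γ ((yon S).map s)) hG
    (IsAlgSpace.yon_obj T).diag (IsAlgSpace.yon_obj T')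
    (fun _ _ _ _ _ _ hQ => Lib.AlgSpace.isOpenMap_map (Lib.AlgSpace.repWith_baseChange hQ hs.univOpen))
    (Lib.AlgSpace.surjective_map hs.surj) h

theorem univClosed_descend (hs : Fppf s)
    (h : AlgSp.IsUnivClosedMor (pullback.snd γ ((yon S).map s))) : AlgSp.IsUnivClosedMor γ := by
  refine (Lib.AlgSpMor.Topo.univSp_iff_affine Lib.AlgSpMor.Topo.cartLocal_isClosedMap γ).2
    fun Z _ g Q fst' snd' sq' => ?_
  obtain ⟨V, t, v, sqT⟩ :=
    Lib.AlgSpace.exists_isPullback_yon (IsAlgSpace.yon_obj T).diag g ((yon S).map s)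
  have hto : RepWith @UniversallyOpen ((yon S).map t) :=
    Lib.AlgSpace.repWith_baseChange sqT.flip hs.univOpen
  have hts : RepWith @Surjective ((yon S).map t) :=
    Lib.AlgSpace.repWith_baseChange sqT.flip hs.surj
  have sq2 := IsPullback.of_hasPullback snd' ((yon S).map t)
  have sq3 := sq2.paste_horiz sq'
  rw [sqT.w] at sq3
  have sq4 := IsPullback.of_right' sq3 (IsPullback.of_hasPullback γ ((yon S).map s))
  refine Lib.AlgSpMor.Topo.cartLocal_isClosedMap (ι := PUnit) (Points.map snd')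
    (fun _ => Points.map (pullback.snd snd' ((yon S).map t)))
    (fun _ => Points.map (pullback.fst snd' ((yon S).map t))) (fun _ => Points.map ((yon S).map t))
    ⟨fun _ a => ?_, fun _ a c e => ?_, fun _ => Points.continuous_map _,
      fun _ => Points.continuous_map _, fun _ => Lib.AlgSpace.isOpenMap_map hto, fun z => ?_⟩
    (Points.continuous_map _) fun _ => ?_
  · rw [← Points.map_comp, ← Points.map_comp, pullback.condition]
  · exact Lib.AlgSpace.exists_of_isPullback sq2 a c e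
  · obtain ⟨y, hy⟩ := Lib.AlgSpace.surjective_map hts z
    exact ⟨⟨⟩, y, hy⟩
  · exact h (IsAlgSpace.yon_obj V) _ _ _ sq4

/-- A property descends along fppf covers of schemes. -/
def Descends (P : MorphismProperty (Sp S)) : Prop :=
  ∀ ⦃G : Sp S⦄ ⦃T' T : Over S⦄ (γ : G ⟶ (yon S).obj T) (s : T' ⟶ T), IsAlgSpace G → Fppf s →
    P (pullback.snd γ ((yon S).map s)) → P γ

theorem descends_lft : Descends (LocP @LocallyOfFiniteType (S := S)) := fun _ _ _ _ _ hG hs h =>
  locP_descend SpProps.lft hG hs (fun _ _ _ _ _ _ _ g sq _ _ _ h' => by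
    have := Descend.descendsAlong_fpqcCover @LocallyOfFiniteType
    exact MorphismProperty.of_isPullback_of_descendsAlong (P := @LocallyOfFiniteType)
      (Q := Lib.FFDesc.fpqcCover) sq.flip (Lib.FFDesc.fpqcCover_of_lfp g) h') h

theorem descends_unramified : Descends (LocP ((@LocallyOfFiniteType : MorphismProperty Scheme.{u}) ⊓
    @FormallyUnramified) (S := S)) := fun _ _ _ _ _ hG hs h =>
  locP_descend Lib.AlgSpMor.LocP.unramified hG hs (fun _ _ _ _ _ _ _ g sq _ _ _ h' => by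
    have := Descend.descendsAlong_fpqcCover @LocallyOfFiniteType
    have := Descend.descendsAlong_fpqcCover @FormallyUnramified
    exact ⟨MorphismProperty.of_isPullback_of_descendsAlong (P := @LocallyOfFiniteType)
        (Q := Lib.FFDesc.fpqcCover) sq.flip (Lib.FFDesc.fpqcCover_of_lfp g) h'.1,
      MorphismProperty.of_isPullback_of_descendsAlong (P := @FormallyUnramified)
        (Q := Lib.FFDesc.fpqcCover) sq.flip (Lib.FFDesc.fpqcCover_of_lfp g) h'.2⟩) h

theorem descends_lqf : Descends (LocP ((@LocallyQuasiFinite : MorphismProperty Scheme.{u}) ⊓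
    @LocallyOfFiniteType) (S := S)) := fun _ _ _ _ _ hG hs h =>
  locP_descend Lib.AlgSpMor.LocP.lqfLft hG hs (fun _ _ _ _ _ _ _ g sq _ _ _ h' => by
    have := Descend.descendsAlong_fpqcCover @LocallyOfFiniteType
    have := MorphismProperty.of_isPullback_of_descendsAlong (P := @LocallyOfFiniteType)
        (Q := Lib.FFDesc.fpqcCover) sq.flip (Lib.FFDesc.fpqcCover_of_lfp g) h'.2
    exact ⟨LqfDescend.locallyQuasiFinite sq h'.1, this⟩) h

theorem descends_sep : Descends (AlgSp.IsSeparatedMor (S := S)) := fun _ _ _ _ _ hG hs h => by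
  have := Lib.AlgSpMor.Sep.isLocalAtTarget_fppf_isClosedImmersion.{u}
  exact repWith_diagonal_descend _ hG hs h

theorem descends_qs : Descends (AlgSp.IsQuasiSeparatedMor (S := S)) := fun _ _ _ _ _ hG hs h => by
  have : MorphismProperty.IsLocalAtTarget @QuasiCompact.{u} Scheme.fppfPrecoverage :=
    Lib.AlgSpace.isLocalAtTarget_fppf _
  exact repWith_diagonal_descend _ hG hs h

theorem descends_qcqs :
    Descends (AlgSp.IsQuasiCompactMor ⊓ AlgSp.IsQuasiSeparatedMor (S := S)) :=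
  fun _ _ _ γ s hG hs h => ⟨qc_descend hG hs h.1, descends_qs γ s hG hs h.2⟩

theorem descends_proper : Descends (AlgSp.IsProperMor (S := S)) :=
  fun _ _ _ γ s hG hs h => ⟨descends_sep γ s hG hs h.1,
    ⟨descends_lft γ s hG hs h.2.1.1, qc_descend hG hs h.2.1.2⟩, univClosed_descend hs h.2.2⟩

end Sp

/-! ### Stacks -/

variable {𝒳 𝒴 : AlgSt.Cat S} {𝒵 : AlgSt.Cat S}

/-- A smooth or flat lfp surjective functor gives lifts after fppf covers. -/
theorem exists_lift {w : 𝒵 ⥤ᵇ 𝒳} (hw₁ : RepByAlgSpWith (LocP @Flat) w)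
    (hw₂ : RepByAlgSpWith (LocP @LocallyOfFinitePresentation) w)
    (hw₃ : RepByAlgSpWith AlgSp.IsSurjectiveMor w) {T : Over S} (x : overCat T ⥤ᵇ 𝒳) :
    ∃ (T' : Over S) (s : T' ⟶ T) (_ : Fppf s) (u : overCat T' ⥤ᵇ 𝒵),
      Nonempty (BasedFunctor.comp (Lft.vOf s) x ≅ BasedFunctor.comp u w) := by
  obtain ⟨G, e, he, hfl⟩ := hw₁ T x
  have hfp := Space.prop_of_rep (IsAlgFp.respectsIsoSp_locP
    Lib.SourceDescent.Scheme.locallyOfFinitePresentation) hw₂ G.property he
  have hsu := Space.prop_of_rep IsAlgFp.respectsIsoSp_surjective hw₃ G.property he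
  obtain ⟨T', p, hp, hps⟩ := G.property.atlas
  let γ : G.obj ⟶ (yon S).obj T := spMapOfOver (BasedFunctor.comp e (fpFst x w))
  obtain ⟨s, hs⟩ := (yon S).map_surjective (p ≫ γ)
  have hw' : p ≫ γ = (yon S).map s ≫ 𝟙 _ := by rw [Category.comp_id, hs]
  have h2 : Surjective s.left := ⟨fun t => by
    obtain ⟨g, hg⟩ := hsu (Points.schemeHomeo T t)
    obtain ⟨q, hq⟩ := Lib.AlgSpace.surjective_map hps g
    obtain ⟨t', rfl⟩ := (Points.schemeHomeo T').surjective q
    refine ⟨t', (Points.schemeHomeo T).injective ?_⟩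
    rw [← Points.map_yon_map_apply, ← hg, ← hq, hs, Points.map_comp]⟩
  let η : overCat T' ⥤ᵇ fp x w :=
    BasedFunctor.comp (ofOverCat T') (BasedFunctor.comp (ofSpMap p) e)
  have hv : spMapOfOver (BasedFunctor.comp (ofSpMap p) (BasedFunctor.comp e (fpFst x w))) =
      (yon S).map s := by rw [Rep.spMapOfOver_precomp, hs]
  let ι : BasedFunctor.comp η (fpFst x w) ≅ Lft.vOf s :=
    BasedBasic.isoWhiskerLeft (ofOverCat T')
      (Rep.isoSpMapOfOver (BasedFunctor.comp (ofSpMap p) (BasedFunctor.comp e (fpFst x w))) ≪≫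
        eqToIso (by rw [hv]))
  exact ⟨T', s, ⟨hfl p (𝟙 _) s hp (AlgSp.repWith_id _ _) hw',
      hfp p (𝟙 _) s hp (AlgSp.repWith_id _ _) hw', h2⟩, BasedFunctor.comp η (fpSnd x w),
    ⟨(BasedBasic.isoWhiskerRight ι x).symm ≪≫ BasedBasic.isoWhiskerLeft η (fpIso x w)⟩⟩

/-- A property of representing morphisms may be checked after fppf covers of the test schemes. -/
theorem rep_descend {P : MorphismProperty (Sp S)} (hP : StableBC P) (hPs : FromSchemes P)
    (hd : Descends P) {d : 𝒳 ⥤ᵇ 𝒴} (hr : RepByAlgSp1 d)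
    (h : ∀ (T : Over S) (z : overCat T ⥤ᵇ 𝒴), ∃ (T' : Over S) (s : T' ⟶ T), Fppf s ∧
      RepByAlgSpWith P (fpFst (BasedFunctor.comp (Lft.vOf s) z) d)) :
    RepByAlgSpWith P d := fun T z => by
  obtain ⟨G, e, he⟩ := hr T z
  refine ⟨G, e, he, ?_⟩
  obtain ⟨T', s, hs, hC⟩ := h T z
  set γ : G.obj ⟶ (yon S).obj T := spMapOfOver (BasedFunctor.comp e (fpFst z d))
  refine hd γ s G.property hs ?_
  have hD : RepByAlgSpWith P (fpFst (Lft.vOf s) (fpFst z d)) :=
    (Rep.repByAlgSpWith_iff_of_isEquivOver (f := fpFst (BasedFunctor.comp (Lft.vOf s) z) d)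
      (f' := fpFst (Lft.vOf s) (fpFst z d))
      (Rep.isEquivOver_pasteBase (Lft.vOf s) z d) BasedBasic.isEquivOver_id
      (eqToIso (Rep.pasteBase_fst (Lft.vOf s) z d).symm)).1 hC
  have sq := IsPullback.of_hasPullback γ ((yon S).map s)
  have := BasedBasic.IsEquivOver.full (Rep.isEquivOver_toOverCat T)
  have := BasedBasic.IsEquivOver.faithful (Rep.isEquivOver_toOverCat T)
  have h1 := Space.isEquivOver_sqLift (sq.map (sheafToPresheaf _ _)).flip
  have h2 := FibProd.isEquivOver_fpMap (toOverCat T') e (toOverCat T)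
    (F := Lft.vOf s) (G := fpFst z d) (F' := ofSpMap ((yon S).map s)) (G' := ofSpMap γ)
    (Iso.refl _) (Rep.isoSpMapOfOver (BasedFunctor.comp e (fpFst z d)))
    (Rep.isEquivOver_toOverCat T') he
  have hE : RepByAlgSpWith P (ofSpMap (pullback.snd γ ((yon S).map s))) :=
    (Rep.repByAlgSpWith_iff_of_isEquivOver (f := fpFst (Lft.vOf s) (fpFst z d))
      (f' := ofSpMap (pullback.snd γ ((yon S).map s))) (BasedBasic.IsEquivOver.comp h1 h2)
      (Rep.isEquivOver_toOverCat T') (Iso.refl _)).1 hD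
  exact Rep.prop_of_ofSpMap (Rep.respectsIsoSp hP) hPs
    (Lib.AlgSpace.isAlgSpace_of_isPullback sq (IsAlgSpace.yon_obj T).diag G.property
      (IsAlgSpace.yon_obj T')) (IsAlgSpace.yon_obj T') _ hE

/-- A property of the diagonal descends along an fppf cover of the target. -/
theorem diag_descend {P : MorphismProperty (Sp S)} (hP : StableBC P) (hPs : FromSchemes P)
    (hd : Descends P) {f : 𝒳 ⥤ᵇ 𝒴} (hr : RepByAlgSp1 (diag f)) {w : 𝒵 ⥤ᵇ 𝒴}
    (hw₁ : RepByAlgSpWith (LocP @Flat) w)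
    (hw₂ : RepByAlgSpWith (LocP @LocallyOfFinitePresentation) w)
    (hw₃ : RepByAlgSpWith AlgSp.IsSurjectiveMor w)
    (h : RepByAlgSpWith P (diag (fpFst w f))) : RepByAlgSpWith P (diag f) := by
  refine rep_descend hP hPs hd hr fun T z => ?_
  obtain ⟨T', s, hs, u, ⟨α⟩⟩ := exists_lift hw₁ hw₂ hw₃
    (BasedFunctor.comp z (BasedFunctor.comp (fpFst f f) f))
  refine ⟨T', s, hs, ?_⟩
  let v := Lft.vOf s
  let a : overCat T' ⥤ᵇ fp w f :=
    fpLift u (BasedFunctor.comp (BasedFunctor.comp v z) (fpFst f f)) α.symm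
  let b : overCat T' ⥤ᵇ fp w f :=
    fpLift u (BasedFunctor.comp (BasedFunctor.comp v z) (fpSnd f f))
      (α.symm ≪≫ BasedBasic.isoWhiskerLeft (BasedFunctor.comp v z) (fpIso f f))
  let σ : overCat T' ⥤ᵇ fp (fpFst w f) (fpFst w f) := fpLift a b (Iso.refl u)
  let ε : BasedFunctor.comp σ (projBase f w) ≅ BasedFunctor.comp v z :=
    Lib.Fibred.Slice.fpIsoMk (Iso.refl (BasedFunctor.comp (BasedFunctor.comp v z) (fpFst f f)))
      (Iso.refl (BasedFunctor.comp (BasedFunctor.comp v z) (fpSnd f f))) fun x => by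
      change f.map (𝟙 _) ≫ ((BasedFunctor.comp v z).obj x).obj.iso.hom =
        ((BasedBasic.appIso α x).hom ≫ w.map (𝟙 (u.obj x)) ≫
          ((BasedBasic.appIso α x).inv ≫ ((BasedFunctor.comp v z).obj x).obj.iso.hom)) ≫ f.map (𝟙 _)
      rw [f.toFunctor.map_id, w.toFunctor.map_id, f.toFunctor.map_id]
      erw [Category.id_comp, Category.id_comp, Category.comp_id]
      exact ((BasedBasic.appIso α x).hom_inv_id_assoc _).symm
  have hA : RepByAlgSpWith P (fpFst (projBase f w) (diag f)) :=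
    (Rep.repByAlgSpWith_iff_of_isEquivOver (f := fpFst (projBase f w) (diag f))
      (f' := diag (fpFst w f)) (isEquivOver_projToBase f w) BasedBasic.isEquivOver_id
      (Iso.refl _)).2 h
  have hB : RepByAlgSpWith P (fpFst (BasedFunctor.comp σ (projBase f w)) (diag f)) :=
    (Rep.repByAlgSpWith_iff_of_isEquivOver
      (f := fpFst (BasedFunctor.comp σ (projBase f w)) (diag f))
      (f' := fpFst σ (fpFst (projBase f w) (diag f)))
      (Rep.isEquivOver_pasteBase σ (projBase f w) (diag f)) BasedBasic.isEquivOver_id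
      (eqToIso (Rep.pasteBase_fst σ (projBase f w) (diag f)).symm)).2
        (Rep.repByAlgSpWith_fpFst σ hA)
  exact (Rep.repByAlgSpWith_iff_of_isEquivOver (f := fpFst (BasedFunctor.comp v z) (diag f))
      (f' := fpFst (BasedFunctor.comp σ (projBase f w)) (diag f))
      (FibProd.isEquivOver_congrLeft ε (diag f)) BasedBasic.isEquivOver_id
      (eqToIso (FibProd.congrLeft_fst ε (diag f)).symm)).2 hB

end Groth.Agent.H14.Sep.Cover

namespace Groth.Agent.H14.Sep.Cover

open Groth.Agent.Lib.AlgStack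
open SpProps DiagCat Main
open FibCat (IsEquivOver fp fpFst fpSnd fpLift fpIso diag overCat IsFibGrpd toSelf)
open AlgSt (ofSp ofSpMap ofOverCat toOverCat spMapOfOver RepByAlgSp1 RepByAlgSpWith IsAlgStack)
open AlgSp (Sp yon IsAlgSpace LocP RepWith Points UnivSp)
open Lib.AlgStack.Diag (pair isoToProd overMap' prodToFp)

variable {S : Scheme.{u}} {𝒳 : AlgSt.Cat S}

/-- The base change of the diagonal to the square of a chart has the properties which cancel. -/
theorem locP_fpFst_sqAtlas {R₀ W' : MorphismProperty Scheme.{u}}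
    (hW : Lib.SourceDescent.Scheme.EtaleLocalST W')
    (hc : ∀ ⦃A B C : Scheme.{u}⦄ (f : A ⟶ B) (g : B ⟶ C), R₀ (f ≫ g) → W' f)
    {W : Over S} (a : overCat W ⥤ᵇ 𝒳) (ha : RepByAlgSpWith (LocP R₀) a) :
    RepByAlgSpWith (LocP W') (fpFst (Lft.sqAtlas a) (diag (toSelf 𝒳))) := by
  obtain ⟨R, e, he, hsm⟩ := ha W a
  let D := Lib.AlgStack.Diag.toDiagPullback a a
  let Φ := BasedFunctor.comp e (BasedFunctor.comp D (fpFst (Lft.sqAtlas a) (diag (toSelf 𝒳))))
  obtain ⟨i, hi, ⟨η⟩, ⟨ε⟩⟩ :=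
    BasedBasic.IsEquivOver.exists_inverse (Lib.AlgStack.Diag.isEquivOver_prodToFp W W)
  let γ : R.obj ⟶ (yon S).obj (W ⨯ W) := spMapOfOver (BasedFunctor.comp Φ i)
  have h1 : γ ≫ (yon S).map prod.fst = spMapOfOver (BasedFunctor.comp e (fpFst a a)) := by
    rw [← Lft.spMapOfOver_overMap']
    exact Rep.spMapOfOver_eq_of_iso (BasedBasic.isoWhiskerLeft Φ
      (BasedBasic.isoWhiskerRight ε (fpFst (toSelf (overCat W)) (toSelf (overCat W)))))
  have hloc : LocP W' γ :=
    Lib.AlgSpMor.LocP.locP_of_comp (P := R₀) (R := ⊤) hW (fun f g h _ => hc f g h)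
      R.property (IsAlgSpace.yon_obj _) (IsAlgSpace.yon_obj _) (g := (yon S).map prod.fst)
      (by rw [h1]; exact hsm) (fun _ _ _ _ _ _ _ _ => trivial)
  have h2 : RepByAlgSpWith (LocP W') (ofSpMap γ) :=
    Rep.ofSpMap_of R.property (IsAlgSpace.yon_obj _) γ fun U ξ P' p q sq =>
      Lib.AlgSpMor.LocP.locP_of_isPullback hW R.property (IsAlgSpace.yon_obj _)
        (IsAlgSpace.yon_obj U) sq hloc
  have hb : IsEquivOver (BasedFunctor.comp (toOverCat (W ⨯ W)) (prodToFp W W)) :=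
    BasedBasic.IsEquivOver.comp (Rep.isEquivOver_toOverCat _)
      (Lib.AlgStack.Diag.isEquivOver_prodToFp W W)
  exact (Rep.repByAlgSpWith_iff_of_isEquivOver (f := fpFst (Lft.sqAtlas a) (diag (toSelf 𝒳)))
    (f' := ofSpMap γ)
    (BasedBasic.IsEquivOver.comp he (Lib.AlgStack.Diag.isEquivOver_toDiagPullback a a)) hb
    ((BasedBasic.isoWhiskerRight (Rep.isoSpMapOfOver (BasedFunctor.comp Φ i)) (prodToFp W W)).symm ≪≫
      BasedBasic.isoWhiskerLeft Φ ε)).2 h2

/-- The diagonal of a stack with an fppf chart having a cancellable property. -/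
theorem locP_diag_of_chart {R₀ W' : MorphismProperty Scheme.{u}}
    (hW : Lib.SourceDescent.Scheme.EtaleLocalST W')
    (hc : ∀ ⦃A B C : Scheme.{u}⦄ (f : A ⟶ B) (g : B ⟶ C), R₀ (f ≫ g) → W' f)
    (hd : Descends (LocP W' (S := S))) {J₀ : Precoverage Scheme.{u}} (h𝒳 : IsAlgStack J₀ 𝒳)
    {W : Over S} (a : overCat W ⥤ᵇ 𝒳) (ha : RepByAlgSpWith (LocP R₀) a)
    (ha₁ : RepByAlgSpWith (LocP @Flat) a)
    (ha₂ : RepByAlgSpWith (LocP @LocallyOfFinitePresentation) a)
    (ha₃ : RepByAlgSpWith AlgSp.IsSurjectiveMor a) :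
    RepByAlgSpWith (LocP W') (diag (toSelf 𝒳)) := by
  refine rep_descend (stableBC_locP hW) (fromSchemes_locP hW) hd h𝒳.diag fun T z => ?_
  obtain ⟨T₁, s₁, hs₁, u₁, ⟨α₁⟩⟩ :=
    exists_lift ha₁ ha₂ ha₃ (BasedFunctor.comp z (fpFst (toSelf 𝒳) (toSelf 𝒳)))
  obtain ⟨T₂, s₂, hs₂, u₂, ⟨α₂⟩⟩ := exists_lift ha₁ ha₂ ha₃
    (BasedFunctor.comp (Lft.vOf s₁) (BasedFunctor.comp z (fpSnd (toSelf 𝒳) (toSelf 𝒳))))
  let s := s₂ ≫ s₁
  have hs : Fppf s := by
    have := hs₁.1; have := hs₁.2.1; have := hs₁.2.2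
    have := hs₂.1; have := hs₂.2.1; have := hs₂.2.2
    refine ⟨?_, ?_, ?_⟩ <;> (rw [Over.comp_left]; infer_instance)
  refine ⟨T₂, s, hs, ?_⟩
  let w : overCat T₂ ⥤ᵇ fp (toSelf (overCat W)) (toSelf (overCat W)) :=
    pair (BasedFunctor.comp (Lft.vOf s₂) u₁) u₂
  let α : BasedFunctor.comp w (Lft.sqAtlas a) ≅ BasedFunctor.comp (Lft.vOf s) z :=
    isoToProd
      ((BasedBasic.isoWhiskerLeft (Lft.vOf s₂) α₁).symm ≪≫ BasedBasic.isoWhiskerRight
        (eqToIso (Lft.vOf_comp s₂ s₁)) (BasedFunctor.comp z (fpFst (toSelf 𝒳) (toSelf 𝒳))))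
      (α₂.symm ≪≫ BasedBasic.isoWhiskerRight (eqToIso (Lft.vOf_comp s₂ s₁))
        (BasedFunctor.comp z (fpSnd (toSelf 𝒳) (toSelf 𝒳))))
  have hA := Rep.repByAlgSpWith_fpFst w (locP_fpFst_sqAtlas hW hc a ha)
  have hB : RepByAlgSpWith (LocP W')
      (fpFst (BasedFunctor.comp w (Lft.sqAtlas a)) (diag (toSelf 𝒳))) :=
    (Rep.repByAlgSpWith_iff_of_isEquivOver
      (f := fpFst (BasedFunctor.comp w (Lft.sqAtlas a)) (diag (toSelf 𝒳)))
      (f' := fpFst w (fpFst (Lft.sqAtlas a) (diag (toSelf 𝒳))))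
      (Rep.isEquivOver_pasteBase w (Lft.sqAtlas a) (diag (toSelf 𝒳))) BasedBasic.isEquivOver_id
      (eqToIso (Rep.pasteBase_fst w (Lft.sqAtlas a) (diag (toSelf 𝒳))).symm)).2 hA
  exact (Rep.repByAlgSpWith_iff_of_isEquivOver
      (f := fpFst (BasedFunctor.comp (Lft.vOf s) z) (diag (toSelf 𝒳)))
      (f' := fpFst (BasedFunctor.comp w (Lft.sqAtlas a)) (diag (toSelf 𝒳)))
      (FibProd.isEquivOver_congrLeft α (diag (toSelf 𝒳))) BasedBasic.isEquivOver_id
      (eqToIso (FibProd.congrLeft_fst α (diag (toSelf 𝒳))).symm)).2 hB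

/-- Passing from a chart by an algebraic space to a chart by a scheme. -/
theorem diag_of_spaceChart {R₀ W' : MorphismProperty Scheme.{u}}
    (hR : Lib.SourceDescent.Scheme.EtaleLocalST R₀)
    (hW : Lib.SourceDescent.Scheme.EtaleLocalST W')
    (hc : ∀ ⦃A B C : Scheme.{u}⦄ (f : A ⟶ B) (g : B ⟶ C), R₀ (f ≫ g) → W' f)
    (hd : Descends (LocP W' (S := S))) (h𝒳 : IsAlgStack Scheme.fppfPrecoverage 𝒳)
    (W : AlgSp.Space S) (w : ofSp W.obj ⥤ᵇ 𝒳) (hw : RepByAlgSpWith (LocP R₀) w)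
    (hw₁ : RepByAlgSpWith (LocP @Flat) w)
    (hw₂ : RepByAlgSpWith (LocP @LocallyOfFinitePresentation) w)
    (hw₃ : RepByAlgSpWith AlgSp.IsSurjectiveMor w) :
    RepByAlgSpWith (LocP W') (diag (toSelf 𝒳)) := by
  obtain ⟨W₀, p, hpe, hps⟩ := W.property.atlas
  let a := BasedFunctor.comp (BasedFunctor.comp (ofOverCat W₀) (ofSpMap p)) w
  have hg : IsFibGrpd (ofSp W.obj).p := (StkRep.isStack_ofSp W.obj).1
  have at' : ∀ {P : MorphismProperty Scheme.{u}}, Lib.SourceDescent.Scheme.EtaleLocalST P →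
      RepByAlgSpWith (LocP P) (BasedFunctor.comp (ofOverCat W₀) (ofSpMap p)) := fun hP =>
    IsAlg.repByAlgSpWith_atlas hpe hps fun _ _ q hq _ =>
      Comp.locP_of_repWith_etale (fun _ _ g hg => hP.etale g hg) hq
  exact locP_diag_of_chart hW hc hd h𝒳 a
    (IsAlgFp.comp_locP hR (Yoneda.isFibGrpd_overCat W₀) hg (at' hR) hw)
    (IsAlgFp.comp_locP Lib.SourceDescent.Scheme.flat (Yoneda.isFibGrpd_overCat W₀) hg
      (at' Lib.SourceDescent.Scheme.flat) hw₁)
    (IsAlgFp.comp_locP Lib.SourceDescent.Scheme.locallyOfFinitePresentation (Yoneda.isFibGrpd_overCat W₀) hg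
      (at' Lib.SourceDescent.Scheme.locallyOfFinitePresentation) hw₂)
    (IsAlgFp.comp_surjective (Yoneda.isFibGrpd_overCat W₀) hg
      (IsAlg.repByAlgSpWith_atlas hpe hps fun _ _ q _ hq => Lib.AlgSpace.surjective_map hq) hw₃)

theorem unramified_cancel ⦃A B C : Scheme.{u}⦄ (f : A ⟶ B) (g : B ⟶ C)
    (h : ((@LocallyOfFiniteType : MorphismProperty Scheme.{u}) ⊓ @FormallyUnramified) (f ≫ g)) :
    ((@LocallyOfFiniteType : MorphismProperty Scheme.{u}) ⊓ @FormallyUnramified) f := by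
  have := h.1
  have := h.2
  exact ⟨locallyOfFiniteType_of_comp f g, FormallyUnramified.of_comp f g⟩

theorem lqf_cancel ⦃A B C : Scheme.{u}⦄ (f : A ⟶ B) (g : B ⟶ C)
    (h : ((@LocallyQuasiFinite : MorphismProperty Scheme.{u}) ⊓ @LocallyOfFiniteType) (f ≫ g)) :
    ((@LocallyQuasiFinite : MorphismProperty Scheme.{u}) ⊓ @LocallyOfFiniteType) f := by
  have := h.1
  have := h.2
  exact ⟨LocallyQuasiFinite.of_comp f g, locallyOfFiniteType_of_comp f g⟩

end Groth.Agent.H14.Sep.Cover
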