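import Groth.Agent.H14.Sep.SpProps
import Groth.Agent.Lib.AlgSpMor.QC
import Mathlib.RingTheory.Spectrum.Prime.Topology

/-!
Universally closed morphisms of algebraic spaces are quasi-compact.
-/

set_option autoImplicit false
set_option backward.isDefEq.respectTransparency false
set_option backward.isDefEq.respectTransparency.types false

universe u

open CategoryTheory CategoryTheory.Limits AlgebraicGeometry TopologicalSpace

namespace Groth.Agent.H14.Sep.SpUC

open Groth.Agent.Lib.AlgSpace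
open AlgSp (Sp yon IsAlgSpace RepWith Points)

variable {S : Scheme.{u}}

theorem mem_basicOpen_map {R R' : CommRingCat.{u}} (φ : R ⟶ R') (x : ↥(Spec R')) (g : R) {r : R'}
    (h : φ.hom g = r) : (Spec.map φ x ∈ (PrimeSpectrum.basicOpen g : (Spec R).Opens)) ↔
      r ∉ x.asIdeal := by
  subst h; rfl

open MvPolynomial in
theorem compactSpace_of_univClosed {F : Sp S} (hF : IsAlgSpace F) {Z : Over S} [IsAffine Z.left]
    (f : F ⟶ (yon S).obj Z) (hf : AlgSp.IsUnivClosedMor f) : CompactSpace (Points F) := by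
  classical
  obtain ⟨U, a, he, hs⟩ := hF.atlas
  let ι : Type u := U.left.affineOpens
  let O : ι → Set (Points F) := fun i => Points.ofPt a '' (i.1 : Set ↥U.left)
  have hO : ∀ i, IsOpen (O i) := fun i => isOpenMap_ofPt he _ i.1.2
  have hOc : ∀ i, IsCompact (O i) := fun i => i.2.isCompact.image (Points.continuous_ofPt a)
  have hcov : ∀ x, ∃ i, x ∈ O i := fun x => by
    obtain ⟨v, rfl⟩ := surjective_ofPt hs x
    obtain ⟨V, hV, hv, -⟩ := exists_isAffineOpen_mem_and_subset (U := ⊤) (Set.mem_univ v)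
    exact ⟨⟨V, hV⟩, v, hv, rfl⟩
  let A : Type u := Γ(Z.left, ⊤)
  let M : CommRingCat.{u} := CommRingCat.of (MvPolynomial ι A)
  let c : Γ(Z.left, ⊤) ⟶ M := CommRingCat.ofHom (MvPolynomial.C : A →+* MvPolynomial ι A)
  let T : Over S := Over.mk ((Spec.map c ≫ Z.left.isoSpec.inv) ≫ Z.hom)
  let q : T ⟶ Z := Over.homMk (Spec.map c ≫ Z.left.isoSpec.inv) rfl
  let Ti : ι → (Spec M).Opens := fun i => PrimeSpectrum.basicOpen (MvPolynomial.X i)
  let p := pullback.fst f ((yon S).map q)
  let r := pullback.snd f ((yon S).map q)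
  let h : Points ((yon S).obj T) → ↥(Spec M) := (Points.schemeHomeo T).symm
  have hclosed : IsClosedMap (h ∘ Points.map r) :=
    (Points.schemeHomeo T).symm.isClosedMap.comp
      (hf (IsAlgSpace.yon_obj T) _ _ _ (IsPullback.of_hasPullback f ((yon S).map q)))
  let Zs : Set (Points (pullback f ((yon S).map q))) :=
    (⋃ i, (h ∘ Points.map r) ⁻¹' (Ti i : Set ↥(Spec M)) ∩ Points.map p ⁻¹' O i)ᶜ
  have hZs : IsClosed Zs := isClosed_compl_iff.2 <| isOpen_iUnion fun i =>
    ((Ti i).2.preimage ((Points.schemeHomeo T).symm.continuous.comp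
      (Points.continuous_map r))).inter ((hO i).preimage (Points.continuous_map p))
  let Zc : (Spec M).Opens := ⟨((h ∘ Points.map r) '' Zs)ᶜ, (hclosed _ hZs).isOpen_compl⟩
  let ψ : M ⟶ Γ(Z.left, ⊤) :=
    CommRingCat.ofHom (MvPolynomial.aeval (fun _ : ι => (1 : A))).toRingHom
  let t : ↥Z.left → ↥(Spec M) := fun z => (Z.left.isoSpec.hom ≫ Spec.map ψ) z
  have hcψ : c ≫ ψ = 𝟙 _ := by
    apply CommRingCat.hom_ext; apply RingHom.ext; intro x
    exact (MvPolynomial.aeval_C (fun _ : ι => (1 : A)) x).trans (Algebra.algebraMap_self_apply x)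
  have ht : ∀ z i, t z ∈ Ti i := fun z i => by
    change ψ.hom (MvPolynomial.X i) ∉ (Z.left.isoSpec.hom z).asIdeal
    have : ψ.hom (MvPolynomial.X i) = (1 : A) :=
      MvPolynomial.aeval_X (fun _ : ι => (1 : A)) i
    rw [this]
    exact fun h1 => (Z.left.isoSpec.hom z).isPrime.ne_top ((Ideal.eq_top_iff_one _).2 h1)
  have htZc : ∀ z, t z ∈ Zc := fun z => by
    rintro ⟨w, hw, hwt⟩
    refine hw ?_
    obtain ⟨i, hi⟩ := hcov (Points.map p w)
    exact Set.mem_iUnion.2 ⟨i, by rw [Set.mem_preimage, hwt]; exact ht z i, hi⟩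
  let B : MvPolynomial ι A → (Spec M).Opens := fun g => PrimeSpectrum.basicOpen g
  have hb : ∀ z, ∃ g : MvPolynomial ι A,
      t z ∈ B g ∧ B g ≤ Zc := fun z => by
    obtain ⟨U', ⟨g, rfl⟩, h1, h2⟩ :=
      Opens.isBasis_iff_nbhd.mp PrimeSpectrum.isBasis_basic_opens (htZc z)
    exact ⟨g, h1, h2⟩
  choose g hg1 hg2 using hb
  have htc : Continuous t := (Z.left.isoSpec.hom ≫ Spec.map ψ).continuous
  obtain ⟨s, hs'⟩ := (isCompact_univ (X := ↥Z.left)).elim_finite_subcover
    (fun z => t ⁻¹' (B (g z) : Set ↥(Spec M)))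
    (fun z => (B (g z)).2.preimage htc)
    (fun z _ => Set.mem_iUnion.2 ⟨z, hg1 z⟩)
  let σ : Finset ι := s.biUnion fun z => (g z).vars
  let φ : M ⟶ M := CommRingCat.ofHom
    (MvPolynomial.aeval fun i : ι => if i ∈ σ then MvPolynomial.X i else (0 : MvPolynomial ι A)).toRingHom
  have hcφ : c ≫ φ = c := by
    apply CommRingCat.hom_ext; apply RingHom.ext; intro x
    exact MvPolynomial.aeval_C (R := A) (S₁ := MvPolynomial ι A) _ x
  have hφg : ∀ g' : MvPolynomial ι A, g'.vars ⊆ σ → φ.hom g' = g' := fun g' h =>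
    MvPolynomial.aeval_ite_mem_eq_self g' h
  suffices hfin : (⋃ i ∈ σ, O i) = Set.univ from
    ⟨hfin ▸ σ.isCompact_biUnion fun i _ => hOc i⟩
  refine Set.eq_univ_of_forall fun x => ?_
  by_contra hx
  simp only [Set.mem_iUnion, not_exists] at hx
  let z : ↥Z.left := (Points.schemeHomeo Z).symm (Points.map f x)
  let t' : ↥(Spec M) := Spec.map φ (t z)
  have hqt : q.left t' = z := by
    change (Spec.map c ≫ Z.left.isoSpec.inv) (Spec.map φ ((Z.left.isoSpec.hom ≫ Spec.map ψ) z)) = z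
    have : Z.left.isoSpec.hom ≫ Spec.map ψ ≫ Spec.map φ ≫ Spec.map c ≫ Z.left.isoSpec.inv = 𝟙 _ := by
      rw [← Spec.map_comp_assoc φ ψ, ← Spec.map_comp_assoc c, ← Category.assoc c, hcφ, hcψ]
      simp
    exact congr($this z)
  have hf' : Points.map f x = Points.map ((yon S).map q) (Points.schemeHomeo T t') := by
    rw [Points.map_yon_map_apply, hqt]
    exact ((Points.schemeHomeo Z).apply_symm_apply _).symm
  obtain ⟨w, hw1, hw2⟩ := exists_of_isPullback (IsPullback.of_hasPullback f ((yon S).map q)) x _ hf'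
  have hwt : (h ∘ Points.map r) w = t' := by
    change (Points.schemeHomeo T).symm (Points.map r w) = t'
    rw [hw2]
    exact (Points.schemeHomeo T).symm_apply_apply t'
  have ht' : t' ∈ Zc := by
    obtain ⟨z', hz', hzg⟩ := Set.mem_iUnion₂.1 (hs' (Set.mem_univ z))
    exact hg2 z' ((mem_basicOpen_map φ (t z) (g z') (hφg _ (Finset.subset_biUnion_of_mem (fun z => (g z).vars) hz'))).2 hzg)
  refine ht' ⟨w, fun hw => ?_, hwt⟩
  obtain ⟨i, hi1, hi2⟩ := Set.mem_iUnion.1 hw
  rw [Set.mem_preimage, hwt] at hi1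
  have hi : i ∈ σ := by
    by_contra hi
    exact (mem_basicOpen_map φ (t z) (MvPolynomial.X i : MvPolynomial ι A)
      ((MvPolynomial.aeval_X _ i).trans (if_neg hi))).1 hi1 (Submodule.zero_mem _)
  exact hx i hi (hw1 ▸ hi2)

/-- A universally closed morphism of algebraic spaces is quasi-compact. -/
theorem isQuasiCompactMor_of_univClosed {F G : Sp S} {f : F ⟶ G} (hF : IsAlgSpace F)
    (hG : IsAlgSpace G) (hf : AlgSp.IsUnivClosedMor f) : AlgSp.IsQuasiCompactMor f :=
  Lib.AlgSpMor.QC.isQuasiCompactMor_of_affine hF hG.diag fun Z _ g P fst snd sq =>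
    have hP : IsAlgSpace P :=
      isAlgSpace_of_isPullback sq hG.diag hF (IsAlgSpace.yon_obj Z)
    compactSpace_of_univClosed hP snd (SpProps.stableBC_univSp _ hF hG hP (IsAlgSpace.yon_obj Z) f g snd fst sq hf)

end Groth.Agent.H14.Sep.SpUC
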