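import Groth.Agent.H14.Sep.Lft
import Groth.Agent.H14.Sep.SpUC

/-!
Separatedness from properties of the first and second diagonal.
-/

set_option autoImplicit false
set_option backward.isDefEq.respectTransparency false
set_option backward.isDefEq.respectTransparency.types false

universe v₂ w₂ v₁ w₁ u

open CategoryTheory CategoryTheory.Limits AlgebraicGeometry

namespace Groth.Agent.H14.Sep.Main4

open Groth.Agent.Lib.AlgStack
open SpProps DiagCat Main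
open FibCat (IsEquivOver fp fpFst fpSnd fpLift fpIso diag overCat IsFibGrpd toSelf)
open AlgSt (ofSp ofSpMap RepByAlgSp1 RepByAlgSpWith IsAlgStack)
open AlgSp (Sp yon IsAlgSpace LocP RepWith)

variable {S : Scheme.{u}}

theorem repByAlgSpWith_inf {𝒳 : BasedCategory.{v₁, w₁} (Over S)} {𝒴 : BasedCategory.{v₂, w₂} (Over S)}
    {f : 𝒳 ⥤ᵇ 𝒴} {P Q : MorphismProperty (Sp S)} (hQ : StableBC Q)
    (h1 : RepByAlgSpWith P f) (h2 : RepByAlgSpWith Q f) : RepByAlgSpWith (P ⊓ Q) f := fun U y => by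
  obtain ⟨F, e, he, hP⟩ := h1 U y
  exact ⟨F, e, he, hP, Space.prop_of_rep (Rep.respectsIsoSp hQ) h2 F.property he⟩

variable {𝒳 𝒴 : AlgSt.Cat S}

theorem isSeparatedMor_of_diag_diag (h𝒳 : IsAlgStack Scheme.fppfPrecoverage 𝒳)
    (h𝒴 : IsAlgStack Scheme.fppfPrecoverage 𝒴) (f : 𝒳 ⥤ᵇ 𝒴)
    (h1 : RepByAlgSpWith AlgSp.IsUnivClosedMor (diag f))
    (h2 : RepByAlgSpWith AlgSp.IsUnivClosedMor (diag (diag f))) : AlgSt.IsSeparatedMor f :=
  Rep.repByAlgSpWith_mono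
    (repByAlgSpWith_inf (stableBC_univSp _)
      (repByAlgSpWith_inf (stableBC_locP SpProps.lft)
        (Main3.sep_of_diag_univClosed (Rep.repByAlgSp1_of_repByAlgSpWith h1) h2)
        (Lft.diag_lft' h𝒳 h𝒴 f)) h1)
    fun _ _ _ hF hG h => ⟨h.1.1, ⟨h.1.2, SpUC.isQuasiCompactMor_of_univClosed hF hG h.2⟩, h.2⟩

theorem isQuasiSeparatedMor_iff (f : 𝒳 ⥤ᵇ 𝒴) :
    AlgSt.IsQuasiSeparatedMor f ↔ RepByAlgSpWith AlgSp.IsQuasiCompactMor (diag f) ∧
      RepByAlgSpWith AlgSp.IsQuasiCompactMor (diag (diag f)) := by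
  constructor
  · intro h
    refine ⟨Rep.repByAlgSpWith_mono h fun _ _ _ _ _ h => h.1, ?_⟩
    exact Rep.repByAlgSpWith_mono
      (Main2.diag_qcqs_of_qs (Rep.repByAlgSpWith_mono h fun _ _ _ _ _ h => h.2))
      fun _ _ _ _ _ h => h.1
  · rintro ⟨h1, h2⟩
    exact repByAlgSpWith_inf stableBC_qs h1
      (Main3.qs_of_diag_qc (Rep.repByAlgSp1_of_repByAlgSpWith h1) h2)

end Groth.Agent.H14.Sep.Main4
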