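import Groth.Agent.H14.Sep.Main
import Groth.Agent.Lib.AlgSpMor.QC
import Groth.Agent.Lib.Fibred.SelfOver

/-!
Diagonals of morphisms of algebraic stacks; closed immersions are proper.
-/

set_option autoImplicit false
set_option backward.isDefEq.respectTransparency false
set_option backward.isDefEq.respectTransparency.types false

universe v₂ w₂ v₁ w₁ u

open CategoryTheory CategoryTheory.Limits AlgebraicGeometry

namespace Groth.Agent.H14.Sep.Main2

open Groth.Agent.Lib.AlgStack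
open SpProps DiagCat Main
open FibCat (IsEquivOver fp fpFst fpSnd fpLift fpIso diag overCat IsFibGrpd toSelf)
open AlgSt (ofSp ofSpMap RepByAlgSp1 RepByAlgSpWith)
open AlgSp (Sp yon IsAlgSpace LocP RepWith)

variable {S : Scheme.{u}}

theorem isFibGrpd_self : IsFibGrpd (FibCat.selfOver (Over S)).p := Lib.Fibred.SelfOver.selfOver_grpd

theorem isUnivClosedMor_of_repWith {F G : Sp S} {f : F ⟶ G} (h : RepWith @UniversallyClosed f) :
    AlgSp.IsUnivClosedMor f := by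
  rw [universallyClosed_eq] at h
  exact (Lib.AlgSpMor.Topo.repWith_universally_iff Lib.AlgSpMor.Topo.cartLocal_isClosedMap
    (fun g => Lib.AlgSpMor.Topo.isClosedMap_yon_map_iff g) Lib.AlgSpMor.Topo.isClosedMap_iso_comp h.1).1 h

theorem repWith_universallyClosed_iff {F G : Sp S} {f : F ⟶ G} (hf : AlgSp.Representable f) :
    RepWith @UniversallyClosed f ↔ AlgSp.IsUnivClosedMor f := by
  rw [universallyClosed_eq]
  exact Lib.AlgSpMor.Topo.repWith_universally_iff Lib.AlgSpMor.Topo.cartLocal_isClosedMap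
    (fun g => Lib.AlgSpMor.Topo.isClosedMap_yon_map_iff g) Lib.AlgSpMor.Topo.isClosedMap_iso_comp hf

/-- A closed immersion of algebraic spaces is proper. -/
theorem isProperMor_of_closedImm {F G : Sp S} {f : F ⟶ G} (h : RepWith @IsClosedImmersion f) :
    AlgSp.IsProperMor f := by
  have : Mono f := Lib.AlgSpace.mono_of_repWith (P := @IsClosedImmersion)
    (fun _ _ g hg => have := hg; (inferInstance : Mono g)) h
  exact ⟨SpDiag.isSeparatedMor_of_mono f,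
    ⟨Lib.AlgSpMor.Cancel.locP_of_repWith_le SpProps.lft h
        fun _ _ g hg => have := hg; (inferInstance : LocallyOfFiniteType g),
      Lib.AlgSpMor.QC.isQuasiCompactMor_of_repWith
        (Lib.AlgSpace.repWith_mono h fun _ _ g hg => have := hg; (inferInstance : QuasiCompact g))⟩,
    isUnivClosedMor_of_repWith
      (Lib.AlgSpace.repWith_mono h fun _ _ g hg => have := hg; (inferInstance : UniversallyClosed g))⟩

section Stack

variable {𝒳 𝒴 𝒵 : AlgSt.Cat S}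

theorem diag_cmp_rep1 {𝒯 : BasedCategory.{v₁, w₁} (Over S)} {f : 𝒳 ⥤ᵇ 𝒵} {g : 𝒴 ⥤ᵇ 𝒵} {t : 𝒵 ⥤ᵇ 𝒯} (ht : RepByAlgSp1 (diag t)) :
    RepByAlgSp1 (cmp f g t) :=
  Rep.repByAlgSp1_of_repByAlgSpWith (Rep.cmp_of_diag f g (Rep.repByAlgSpWith_top_iff.2 ht))

/-- The diagonal of any morphism to a category with representable diagonal is representable. -/
theorem rep1_diag (h𝒴 : IsFibGrpd 𝒴.p) (h𝒵 : IsFibGrpd 𝒵.p)
    (hY : RepByAlgSp1 (diag (toSelf 𝒴))) (hZ : RepByAlgSp1 (diag (toSelf 𝒵)))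
    (g : 𝒴 ⥤ᵇ 𝒵) : RepByAlgSp1 (diag g) := by
  have h1 : RepByAlgSpWith ⊤ (diag (BasedFunctor.comp g (toSelf 𝒵))) :=
    (Rep.diag_iff_of_isEquivOver BasedBasic.isEquivOver_id BasedBasic.isEquivOver_id
      (f := BasedFunctor.comp g (toSelf 𝒵)) (f' := toSelf 𝒴)
      (Lib.Fibred.Slice.selfIso _ _)).2 (Rep.repByAlgSpWith_top_iff.2 hY)
  have h2 : RepByAlgSp1 (diag (cmp g g (toSelf 𝒵))) :=
    Rep.repByAlgSp1_of_repByAlgSpWith (diag_mono (diag_cmp_rep1 hZ))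
  exact Rep.repByAlgSp1_of_repByAlgSpWith (diag_of_comp (R := ⊤) h𝒴 h𝒵 isFibGrpd_self stableBC_top
    fromSchemes_top (fun _ _ _ _ _ _ _ _ _ _ => trivial) h1 (Rep.repByAlgSpWith_top_iff.2 h2))

theorem rep1_diag' (h𝒴 : AlgSt.IsAlgStack Scheme.fppfPrecoverage 𝒴)
    (h𝒵 : AlgSt.IsAlgStack Scheme.fppfPrecoverage 𝒵) (g : 𝒴 ⥤ᵇ 𝒵) : RepByAlgSp1 (diag g) :=
  rep1_diag h𝒴.isStack.1 h𝒵.isStack.1 h𝒴.diag h𝒵.diag g

/-- The diagonal of the comparison map of a composite. -/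
theorem rep1_cmp (h𝒴 : AlgSt.IsAlgStack Scheme.fppfPrecoverage 𝒴)
    (h𝒵 : AlgSt.IsAlgStack Scheme.fppfPrecoverage 𝒵) (f : 𝒳 ⥤ᵇ 𝒴) (g : 𝒴 ⥤ᵇ 𝒵) :
    RepByAlgSp1 (cmp f f g) :=
  diag_cmp_rep1 (rep1_diag' h𝒴 h𝒵 g)

/-- A closed immersion diagonal of a representable separated functor. -/
theorem diag_closedImm_of_sep {c : 𝒳 ⥤ᵇ 𝒴} (hc : RepByAlgSpWith AlgSp.IsSeparatedMor c) :
    RepByAlgSpWith (RepWith @IsClosedImmersion) (diag c) :=
  Rep.diag_of_rep (SpProps2.stableBC_repWith _) hc fun _ _ _ _ _ h => h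

theorem diag_proper_of_sep {c : 𝒳 ⥤ᵇ 𝒴} (hc : RepByAlgSpWith AlgSp.IsSeparatedMor c) :
    RepByAlgSpWith AlgSp.IsProperMor (diag c) :=
  Rep.repByAlgSpWith_mono (diag_closedImm_of_sep hc) fun _ _ _ _ _ h => isProperMor_of_closedImm h

theorem diag_qcqs_of_qs {c : 𝒳 ⥤ᵇ 𝒴} (hc : RepByAlgSpWith AlgSp.IsQuasiSeparatedMor c) :
    RepByAlgSpWith (AlgSp.IsQuasiCompactMor ⊓ AlgSp.IsQuasiSeparatedMor) (diag c) :=
  Rep.diag_of_rep good_qcqs.bc hc fun _ _ γ _ _ h =>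
    ⟨Lib.AlgSpMor.QC.isQuasiCompactMor_of_repWith h, SpDiag.isQuasiSeparatedMor_of_mono _⟩

end Stack

end Groth.Agent.H14.Sep.Main2
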