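import Groth.Prelude.Def_AlgSp4
import Groth.Agent.Lib.AlgSpace.DiagProp
import Groth.Agent.Lib.AlgSpace.Props
import Groth.Agent.Lib.AlgSpMor.LocP
import Groth.Agent.Lib.AlgSpMor.Topo

/-!
Properties of morphisms of algebraic spaces: descent from pullbacks to schemes, base change,
composition, and the diagonal of a morphism of algebraic spaces.
-/

universe u

open CategoryTheory CategoryTheory.Limits AlgebraicGeometry Topology

namespace Groth.Agent.H14.Sep.SpProps

open Groth.Agent.Lib.AlgSpace Groth.Agent.Lib.AlgSpMor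
open AlgSp (Sp yon IsAlgSpace Representable RepWith LocP UnivSp)
open Groth.Agent.Lib.SourceDescent.Scheme (EtaleLocalST)

variable {S : Scheme.{u}}

/-- A property of morphisms of algebraic spaces that can be tested on pullbacks to schemes. -/
def FromSchemes (P : MorphismProperty (Sp S)) : Prop :=
  ∀ ⦃G F : Sp S⦄ (a : G ⟶ F), IsAlgSpace G → IsAlgSpace F →
    (∀ ⦃U : Over S⦄ (ξ : (yon S).obj U ⟶ F) ⦃P' : Sp S⦄ (p : P' ⟶ G) (q : P' ⟶ (yon S).obj U),
      IsPullback p q a ξ → P q) → P a

/-- A property of morphisms of algebraic spaces stable under base change. -/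
def StableBC (P : MorphismProperty (Sp S)) : Prop :=
  ∀ ⦃X₁ Y₁ X₂ Y₂ : Sp S⦄, IsAlgSpace X₁ → IsAlgSpace Y₁ → IsAlgSpace X₂ → IsAlgSpace Y₂ →
    ∀ (a : X₁ ⟶ Y₁) (b : Y₂ ⟶ Y₁) (a' : X₂ ⟶ Y₂) (b' : X₂ ⟶ X₁),
      IsPullback b' a' a b → P a → P a'

/-- Composition of a `P` and a `Q` morphism of algebraic spaces is `R`. -/
def CompTo (P Q R : MorphismProperty (Sp S)) : Prop :=
  ∀ ⦃X Y Z : Sp S⦄, IsAlgSpace X → IsAlgSpace Y → IsAlgSpace Z →
    ∀ (a : X ⟶ Y) (b : Y ⟶ Z), P a → Q b → R (a ≫ b)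

theorem fromSchemes_top : FromSchemes (⊤ : MorphismProperty (Sp S)) := fun _ _ _ _ _ _ => trivial

theorem stableBC_top : StableBC (⊤ : MorphismProperty (Sp S)) := fun _ _ _ _ _ _ _ _ _ _ _ _ _ _ => trivial

theorem fromSchemes_inf {P Q : MorphismProperty (Sp S)} (hP : FromSchemes P) (hQ : FromSchemes Q) :
    FromSchemes (P ⊓ Q) := fun _ _ a hG hF h =>
  ⟨hP a hG hF fun _ ξ _ p q sq => (h ξ p q sq).1, hQ a hG hF fun _ ξ _ p q sq => (h ξ p q sq).2⟩

theorem stableBC_inf {P Q : MorphismProperty (Sp S)} (hP : StableBC P) (hQ : StableBC Q) :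
    StableBC (P ⊓ Q) := fun _ _ _ _ h1 h2 h3 h4 a b a' b' sq h =>
  ⟨hP h1 h2 h3 h4 a b a' b' sq h.1, hQ h1 h2 h3 h4 a b a' b' sq h.2⟩

theorem compTo_inf {P Q R P' Q' R' : MorphismProperty (Sp S)} (h : CompTo P Q R)
    (h' : CompTo P' Q' R') : CompTo (P ⊓ P') (Q ⊓ Q') (R ⊓ R') :=
  fun _ _ _ hX hY hZ a b ha hb => ⟨h hX hY hZ a b ha.1 hb.1, h' hX hY hZ a b ha.2 hb.2⟩

/-! ### `LocP` -/

theorem fromSchemes_locP {P : MorphismProperty Scheme.{u}} (hP : EtaleLocalST P) :
    FromSchemes (LocP P (S := S)) := fun G F a hG hF h => by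
  obtain ⟨V, b, hb, hbs⟩ := hF.atlas
  exact LocP.locP_of_isPullback_of_cover hP hG hF hb hbs (IsPullback.of_hasPullback a b)
    (h b _ _ (IsPullback.of_hasPullback a b))

theorem stableBC_locP {P : MorphismProperty Scheme.{u}} (hP : EtaleLocalST P) :
    StableBC (LocP P (S := S)) := fun _ _ _ _ h1 h2 _ h4 _ _ _ _ sq h =>
  LocP.locP_of_isPullback hP h1 h2 h4 sq h

theorem compTo_locP {P : MorphismProperty Scheme.{u}} (hP : EtaleLocalST P) :
    CompTo (LocP P) (LocP P) (LocP P (S := S)) := fun _ _ _ hX hY hZ _ _ ha hb =>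
  LocP.locP_comp hP hX hY hZ ha hb

/-! ### Monomorphisms -/

theorem fromSchemes_mono : FromSchemes (MorphismProperty.monomorphisms (Sp S)) :=
  fun G F a _ _ h => mono_of_yon a fun T x y (w : x ≫ a = y ≫ a) => by
    have sq := IsPullback.of_hasPullback a (x ≫ a)
    have : Mono (pullback.snd a (x ≫ a)) := h _ _ _ sq
    have e : sq.lift x (𝟙 _) (by simp) = sq.lift y (𝟙 _) (by simp [w]) :=
      (cancel_mono (pullback.snd a (x ≫ a))).1 (by simp)
    simpa using congrArg (· ≫ pullback.fst a (x ≫ a)) e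

theorem stableBC_mono : StableBC (MorphismProperty.monomorphisms (Sp S)) :=
  fun _ _ _ _ _ _ _ _ _ _ _ _ sq h => MorphismProperty.of_isPullback sq h

/-! ### Conditions on the diagonal -/

/-- The diagonal of a base change is a base change of the diagonal. -/
theorem isPullback_diagonal {G F Z P : Sp S} {a : G ⟶ F} {ξ : Z ⟶ F} {p : P ⟶ G} {q : P ⟶ Z}
    (sq : IsPullback p q a ξ) :
    IsPullback p (pullback.diagonal q) (pullback.diagonal a)
      (pullback.map q q a a p p ξ sq.w.symm sq.w.symm) := by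
  refine isPullback_of_yon (pullback.hom_ext (by simp [pullback.map, pullback.lift_fst, pullback.lift_snd, pullback.lift_fst_assoc, pullback.lift_snd_assoc]) (by simp [pullback.map, pullback.lift_fst, pullback.lift_snd, pullback.lift_fst_assoc, pullback.lift_snd_assoc]))
    (fun T x x' _ e => ?_) (fun T y z e => ?_)
  · simpa using congrArg (· ≫ pullback.fst q q) e
  · have e1 : y = z ≫ pullback.fst q q ≫ p := by
      simpa [pullback.map, pullback.lift_fst, pullback.lift_snd, pullback.lift_fst_assoc, pullback.lift_snd_assoc] using congrArg (· ≫ pullback.fst a a) e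
    have e2 : y = z ≫ pullback.snd q q ≫ p := by
      simpa [pullback.map, pullback.lift_fst, pullback.lift_snd, pullback.lift_fst_assoc, pullback.lift_snd_assoc] using congrArg (· ≫ pullback.snd a a) e
    have e3 : z ≫ pullback.fst q q = z ≫ pullback.snd q q := by
      apply sq.hom_ext
      · simp only [Category.assoc, ← e1, ← e2]
      · simp [pullback.condition]
    exact ⟨z ≫ pullback.fst q q, by rw [e1, Category.assoc],
      pullback.hom_ext (by simp) (by simp [e3])⟩

theorem fromSchemes_diagonal (P : MorphismProperty Scheme.{u}) [P.IsStableUnderBaseChange] :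
    FromSchemes (fun _ _ (f : _ ⟶ _) => RepWith P (pullback.diagonal f) : MorphismProperty (Sp S)) :=
  fun G F a _ _ h => repWith_of_exists fun V ξ' => by
    have sq := IsPullback.of_hasPullback a (ξ' ≫ pullback.fst a a ≫ a)
    let s : (yon S).obj V ⟶ pullback (pullback.snd a (ξ' ≫ pullback.fst a a ≫ a))
        (pullback.snd a (ξ' ≫ pullback.fst a a ≫ a)) :=
      pullback.lift (sq.lift (ξ' ≫ pullback.fst a a) (𝟙 _) (by simp))
        (sq.lift (ξ' ≫ pullback.snd a a) (𝟙 _) (by simp [pullback.condition])) (by simp)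
    have hs : s ≫ pullback.map _ _ a a (pullback.fst a (ξ' ≫ pullback.fst a a ≫ a))
        (pullback.fst a (ξ' ≫ pullback.fst a a ≫ a)) (ξ' ≫ pullback.fst a a ≫ a)
        sq.w.symm sq.w.symm = ξ' := by
      apply pullback.hom_ext <;> simp [s, pullback.map, pullback.lift_fst, pullback.lift_snd, pullback.lift_fst_assoc, pullback.lift_snd_assoc]
    obtain ⟨W, g, fst, sq', hg⟩ := repWith_exists (h _ _ _ sq) s
    have := sq'.paste_horiz (isPullback_diagonal sq)
    rw [hs] at this
    exact ⟨W, g, _, this, hg⟩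

theorem stableBC_diagonal (P : MorphismProperty Scheme.{u}) :
    StableBC (fun _ _ (f : _ ⟶ _) => RepWith P (pullback.diagonal f) : MorphismProperty (Sp S)) :=
  fun _ _ _ _ _ _ _ _ _ _ _ _ sq h => repWith_baseChange (isPullback_diagonal sq) h

theorem diagonal_comp_repWith {P : MorphismProperty Scheme.{u}} [P.IsStableUnderBaseChange]
    [P.IsStableUnderComposition] {X Y Z : Sp S} (a : X ⟶ Y) (b : Y ⟶ Z)
    (ha : RepWith P (pullback.diagonal a)) (hb : RepWith P (pullback.diagonal b)) :
    RepWith P (pullback.diagonal (a ≫ b)) := by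
  have e : pullback.diagonal (a ≫ b) = pullback.diagonal a ≫
      pullback.map a a (a ≫ b) (a ≫ b) (𝟙 _) (𝟙 _) b (by simp) (by simp) := by
    apply pullback.hom_ext <;> simp [pullback.map, pullback.lift_fst, pullback.lift_snd, pullback.lift_fst_assoc, pullback.lift_snd_assoc]
  rw [e]
  refine repWith_comp ha (repWith_baseChange (G' := pullback (a ≫ b) (a ≫ b))
    (g := pullback.map (a ≫ b) (a ≫ b) b b a a (𝟙 _) (by simp) (by simp))
    (fst := pullback.fst a a ≫ a) ?_ hb)
  refine isPullback_of_yon (pullback.hom_ext (by simp [pullback.map, pullback.lift_fst, pullback.lift_snd, pullback.lift_fst_assoc, pullback.lift_snd_assoc]) (by simp [pullback.map, pullback.lift_fst, pullback.lift_snd, pullback.lift_fst_assoc, pullback.lift_snd_assoc, pullback.condition]))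
    (fun T x x' _ e => ?_) (fun T y z e => ?_)
  · apply pullback.hom_ext
    · simpa [pullback.map, pullback.lift_fst, pullback.lift_snd, pullback.lift_fst_assoc, pullback.lift_snd_assoc] using congrArg (· ≫ pullback.fst (a ≫ b) (a ≫ b)) e
    · simpa [pullback.map, pullback.lift_fst, pullback.lift_snd, pullback.lift_fst_assoc, pullback.lift_snd_assoc] using congrArg (· ≫ pullback.snd (a ≫ b) (a ≫ b)) e
  · have e1 : y = z ≫ pullback.fst _ _ ≫ a := by simpa [pullback.map, pullback.lift_fst, pullback.lift_snd, pullback.lift_fst_assoc, pullback.lift_snd_assoc] using congrArg (· ≫ pullback.fst b b) e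
    have e2 : y = z ≫ pullback.snd _ _ ≫ a := by simpa [pullback.map, pullback.lift_fst, pullback.lift_snd, pullback.lift_fst_assoc, pullback.lift_snd_assoc] using congrArg (· ≫ pullback.snd b b) e
    refine ⟨pullback.lift (z ≫ pullback.fst _ _) (z ≫ pullback.snd _ _)
      (by simp only [Category.assoc]; exact e1.symm.trans e2),
      by simp [e1, pullback.lift_fst_assoc], ?_⟩
    apply pullback.hom_ext <;> simp [pullback.map, pullback.lift_fst, pullback.lift_snd, pullback.lift_fst_assoc, pullback.lift_snd_assoc]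

theorem compTo_diagonal (P : MorphismProperty Scheme.{u}) [P.IsStableUnderBaseChange]
    [P.IsStableUnderComposition] :
    CompTo (fun _ _ (f : _ ⟶ _) => RepWith P (pullback.diagonal f))
      (fun _ _ (f : _ ⟶ _) => RepWith P (pullback.diagonal f))
      (fun _ _ (f : _ ⟶ _) => RepWith P (pullback.diagonal f) : MorphismProperty (Sp S)) :=
  fun _ _ _ _ _ _ a b ha hb => diagonal_comp_repWith a b ha hb

theorem fromSchemes_sep : FromSchemes (AlgSp.IsSeparatedMor (S := S)) :=
  fromSchemes_diagonal @IsClosedImmersion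

theorem stableBC_sep : StableBC (AlgSp.IsSeparatedMor (S := S)) := stableBC_diagonal @IsClosedImmersion

theorem compTo_sep :
    CompTo AlgSp.IsSeparatedMor AlgSp.IsSeparatedMor (AlgSp.IsSeparatedMor (S := S)) :=
  compTo_diagonal @IsClosedImmersion

theorem fromSchemes_qs : FromSchemes (AlgSp.IsQuasiSeparatedMor (S := S)) :=
  fromSchemes_diagonal @QuasiCompact

theorem stableBC_qs : StableBC (AlgSp.IsQuasiSeparatedMor (S := S)) := stableBC_diagonal @QuasiCompact

theorem compTo_qs :
    CompTo AlgSp.IsQuasiSeparatedMor AlgSp.IsQuasiSeparatedMor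
      (AlgSp.IsQuasiSeparatedMor (S := S)) :=
  compTo_diagonal @QuasiCompact

/-! ### Quasi-compactness -/

theorem stableBC_qc : StableBC (AlgSp.IsQuasiCompactMor (S := S)) :=
  fun _ _ _ _ _ _ _ _ _ b _ _ sq h _ _ hZ hqc g fst snd sq' =>
    h hZ hqc (g ≫ b) _ snd (sq'.paste_horiz sq)

theorem compTo_qc : CompTo AlgSp.IsQuasiCompactMor AlgSp.IsQuasiCompactMor
    (AlgSp.IsQuasiCompactMor (S := S)) :=
  fun _ _ _ _ hY hW a b ha hb Z Z' hZ hqc g fst snd sq => by
    have sq₁ := IsPullback.of_hasPullback b g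
    let l : Z' ⟶ pullback b g :=
      pullback.lift (fst ≫ a) snd (by rw [Category.assoc]; exact sq.w)
    have sq₂ : IsPullback fst l a (pullback.fst b g) := by
      refine IsPullback.of_bot ?_ (by simp [l, pullback.lift_fst, pullback.lift_snd, pullback.lift_fst_assoc, pullback.lift_snd_assoc]) sq₁
      simpa [l, pullback.lift_fst, pullback.lift_snd, pullback.lift_fst_assoc, pullback.lift_snd_assoc] using sq
    exact ha (isAlgSpace_of_isPullback sq₁ hW.diag hY hZ) (hb hZ hqc g _ _ sq₁) _ _ _ sq₂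

theorem fromSchemes_qc : FromSchemes (AlgSp.IsQuasiCompactMor (S := S)) :=
  fun G F a _ _ h Z Z' hZ hqc g fst snd sq => by
    obtain ⟨W, w, hwe, hws, hW⟩ := hqc
    have sqT := IsPullback.of_hasPullback snd w
    have hTh := h (w ≫ g) _ _ (sqT.paste_horiz sq)
    obtain ⟨V, v, hve, hvs, hV⟩ := hTh (IsAlgSpace.yon_obj W)
      ⟨W, 𝟙 _, AlgSp.repWith_id _ W, AlgSp.repWith_id _ W, hW⟩ (𝟙 _) (𝟙 _) (pullback.snd snd w)
      (IsPullback.of_horiz_isIso ⟨by simp⟩)
    have : MorphismProperty.IsStableUnderComposition (@Etale : MorphismProperty Scheme.{u}) :=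
      ⟨fun f g (_ : Etale f) (_ : Etale g) ↦ inferInstanceAs (Etale (f ≫ g))⟩
    exact ⟨V, v ≫ pullback.fst snd w, repWith_comp hve (repWith_baseChange sqT.flip hwe),
      repWith_comp hvs (repWith_baseChange sqT.flip hws), hV⟩

/-! ### Universally closed -/

theorem stableBC_univSp (Q : MorphismProperty (Sp S)) : StableBC (UnivSp Q) :=
  fun _ _ _ _ _ _ _ _ _ b _ _ sq h _ _ hZ g fst snd sq' =>
    h hZ (g ≫ b) _ snd (sq'.paste_horiz sq)

theorem fromSchemes_univClosed : FromSchemes (AlgSp.IsUnivClosedMor (S := S)) :=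
  fun G F a _ hF h => by
    obtain ⟨V, b, hb, hbs⟩ := hF.atlas
    exact Topo.univSp_of_cover Topo.cartLocal_isClosedMap hF.diag hb hbs
      (IsPullback.of_hasPullback a b) (h b _ _ (IsPullback.of_hasPullback a b))

theorem compTo_univClosed : CompTo AlgSp.IsUnivClosedMor AlgSp.IsUnivClosedMor
    (AlgSp.IsUnivClosedMor (S := S)) :=
  fun _ _ _ _ hY hW a b ha hb Z Z' hZ g fst snd sq => by
    have sq₁ := IsPullback.of_hasPullback b g
    let l : Z' ⟶ pullback b g :=
      pullback.lift (fst ≫ a) snd (by rw [Category.assoc]; exact sq.w)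
    have sq₂ : IsPullback fst l a (pullback.fst b g) := by
      refine IsPullback.of_bot ?_ (by simp [l, pullback.lift_fst, pullback.lift_snd, pullback.lift_fst_assoc, pullback.lift_snd_assoc]) sq₁
      simpa [l, pullback.lift_fst, pullback.lift_snd, pullback.lift_fst_assoc, pullback.lift_snd_assoc] using sq
    have h1 : IsClosedMap (AlgSp.Points.map l) := ha (isAlgSpace_of_isPullback sq₁ hW.diag hY hZ) _ _ _ sq₂
    have h2 : IsClosedMap (AlgSp.Points.map (pullback.snd b g)) := hb hZ g _ _ sq₁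
    have e : AlgSp.Points.map snd = AlgSp.Points.map (pullback.snd b g) ∘ AlgSp.Points.map l := by
      funext x
      rw [Function.comp_apply, ← AlgSp.Points.map_comp]
      simp [l, pullback.lift_fst, pullback.lift_snd, pullback.lift_fst_assoc, pullback.lift_snd_assoc]
    show IsClosedMap (AlgSp.Points.map snd)
    rw [e]
    exact h2.comp h1

/-! ### Proper -/

theorem lft : EtaleLocalST (@LocallyOfFiniteType : MorphismProperty Scheme.{u}) :=
  Lib.SourceDescent.Scheme.locallyOfFiniteType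

theorem fromSchemes_proper : FromSchemes (AlgSp.IsProperMor (S := S)) := fun _ _ a hG hF h =>
  ⟨fromSchemes_sep a hG hF fun _ ξ _ p q sq => (h ξ p q sq).1,
    ⟨fromSchemes_locP lft a hG hF fun _ ξ _ p q sq => (h ξ p q sq).2.1.1,
      fromSchemes_qc a hG hF fun _ ξ _ p q sq => (h ξ p q sq).2.1.2⟩,
    fromSchemes_univClosed a hG hF fun _ ξ _ p q sq => (h ξ p q sq).2.2⟩

theorem stableBC_proper : StableBC (AlgSp.IsProperMor (S := S)) :=
  fun _ _ _ _ h1 h2 h3 h4 a b a' b' sq h =>
    ⟨stableBC_sep h1 h2 h3 h4 a b a' b' sq h.1,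
      ⟨stableBC_locP lft h1 h2 h3 h4 a b a' b' sq h.2.1.1,
        stableBC_qc h1 h2 h3 h4 a b a' b' sq h.2.1.2⟩,
      stableBC_univSp _ h1 h2 h3 h4 a b a' b' sq h.2.2⟩

theorem compTo_proper :
    CompTo AlgSp.IsProperMor AlgSp.IsProperMor (AlgSp.IsProperMor (S := S)) :=
  fun _ _ _ hX hY hZ a b ha hb =>
    ⟨compTo_sep hX hY hZ a b ha.1 hb.1,
      ⟨compTo_locP lft hX hY hZ a b ha.2.1.1 hb.2.1.1, compTo_qc hX hY hZ a b ha.2.1.2 hb.2.1.2⟩,
      compTo_univClosed hX hY hZ a b ha.2.2 hb.2.2⟩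

end Groth.Agent.H14.Sep.SpProps
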