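import Groth.Agent.H14.Sep.SpProps

/-!
Representable and affine-type properties of morphisms of algebraic spaces: descent from pullbacks to
schemes, base change, composition.
-/

universe u

open CategoryTheory CategoryTheory.Limits AlgebraicGeometry

namespace Groth.Agent.H14.Sep.SpProps2

open Groth.Agent.Lib.AlgSpace SpProps
open AlgSp (Sp yon IsAlgSpace RepWith)

variable {S : Scheme.{u}}

theorem fromSchemes_repWith (P : MorphismProperty Scheme.{u}) [P.IsStableUnderBaseChange] :
    FromSchemes (RepWith P (S := S)) := fun G F a _ _ h => repWith_of_exists fun U ξ => by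
  have sq := IsPullback.of_hasPullback a ξ
  obtain ⟨V, g, fst, sq', hg⟩ := repWith_exists (h ξ _ _ sq) (𝟙 ((yon S).obj U))
  have := sq'.paste_horiz sq
  rw [Category.id_comp] at this
  exact ⟨V, g, _, this, hg⟩

theorem stableBC_repWith (P : MorphismProperty Scheme.{u}) : StableBC (RepWith P (S := S)) :=
  fun _ _ _ _ _ _ _ _ _ _ _ _ sq h => repWith_baseChange sq h

theorem compTo_repWith (P : MorphismProperty Scheme.{u}) [P.IsStableUnderBaseChange]
    [P.IsStableUnderComposition] : CompTo (RepWith P) (RepWith P) (RepWith P (S := S)) :=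
  fun _ _ _ _ _ _ _ _ ha hb => repWith_comp ha hb

/-- The shape of affine, integral and finite morphisms. -/
def AffineShape (Φ : ∀ {Z W : Over S}, (W ⟶ Z) → Prop) : MorphismProperty (Sp S) := fun F G f =>
  ∀ ⦃Z : Over S⦄, IsAffine Z.left → ∀ (g : (yon S).obj Z ⟶ G),
    ∃ (W : Over S) (i : W ⟶ Z) (fst : (yon S).obj W ⟶ F),
      IsPullback fst ((yon S).map i) f g ∧ Φ i

variable {Φ : ∀ {Z W : Over S}, (W ⟶ Z) → Prop}

theorem fromSchemes_affineShape : FromSchemes (AffineShape Φ) := fun _ _ a _ _ h Z hZ g => by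
  have sq := IsPullback.of_hasPullback a g
  obtain ⟨W, i, fst, sq', hi⟩ := h g _ _ sq hZ (𝟙 ((yon S).obj Z))
  have := sq'.paste_horiz sq
  rw [Category.id_comp] at this
  exact ⟨W, i, _, this, hi⟩

theorem stableBC_affineShape : StableBC (AffineShape Φ) :=
  fun _ _ _ _ _ _ _ _ a b a' b' sq h Z hZ g => by
    obtain ⟨W, i, fst, sq', hi⟩ := h hZ (g ≫ b)
    refine ⟨W, i, sq.lift fst ((yon S).map i ≫ g) (by rw [sq'.w, Category.assoc]), ?_, hi⟩
    exact IsPullback.of_right (by simpa using sq') (by simp) sq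

theorem compTo_affineShape (haff : ∀ {Z W : Over S} (i : W ⟶ Z), Φ i → IsAffine W.left)
    (hc : ∀ {Z W V : Over S} (i : W ⟶ Z) (j : V ⟶ W), Φ i → Φ j → Φ (j ≫ i)) :
    CompTo (AffineShape Φ) (AffineShape Φ) (AffineShape Φ) :=
  fun _ _ _ _ _ _ a b ha hb Z hZ g => by
    obtain ⟨W, i, fst, sq, hi⟩ := hb hZ g
    obtain ⟨V, j, fst', sq', hj⟩ := ha (haff i hi) fst
    refine ⟨V, j ≫ i, fst', ?_, hc i j hi hj⟩
    rw [Functor.map_comp]
    exact sq'.paste_vert sq

theorem isAffineMor_eq : (AlgSp.IsAffineMor (S := S)) = AffineShape (fun {_ W} _ => IsAffine W.left) :=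
  rfl

theorem isIntegralMor_eq : (AlgSp.IsIntegralMor (S := S)) =
    AffineShape (fun {_ W} i => IsAffine W.left ∧ IsIntegralHom i.left) := rfl

theorem isFiniteMor_eq : (AlgSp.IsFiniteMor (S := S)) =
    AffineShape (fun {_ W} i => IsAffine W.left ∧ IsFinite i.left) := rfl

theorem compTo_affine : CompTo AlgSp.IsAffineMor AlgSp.IsAffineMor (AlgSp.IsAffineMor (S := S)) :=
  compTo_affineShape (Φ := fun {_ W} _ => IsAffine W.left) (fun _ h => h) (fun _ _ _ h => h)

theorem compTo_integral :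
    CompTo AlgSp.IsIntegralMor AlgSp.IsIntegralMor (AlgSp.IsIntegralMor (S := S)) :=
  compTo_affineShape (Φ := fun {_ W} i => IsAffine W.left ∧ IsIntegralHom i.left) (fun _ h => h.1)
    fun i j hi hj => ⟨hj.1, by rw [Over.comp_left]; exact have := hi.2; have := hj.2; inferInstance⟩

theorem compTo_finite : CompTo AlgSp.IsFiniteMor AlgSp.IsFiniteMor (AlgSp.IsFiniteMor (S := S)) :=
  compTo_affineShape (Φ := fun {_ W} i => IsAffine W.left ∧ IsFinite i.left) (fun _ h => h.1)
    fun i j hi hj => ⟨hj.1, by rw [Over.comp_left]; exact have := hi.2; have := hj.2; inferInstance⟩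

end Groth.Agent.H14.Sep.SpProps2
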