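import Groth.Agent.Lib.FFDesc.Datum
import Mathlib.AlgebraicGeometry.Morphisms.LocalFlatDescent

/-!
Properties local on the target which descend along quasi-compact faithfully flat morphisms
descend along fpqc coverings, in particular along smooth surjective morphisms.
-/

set_option autoImplicit false
set_option backward.isDefEq.respectTransparency false

universe u

open CategoryTheory CategoryTheory.Limits AlgebraicGeometry MorphismProperty

namespace Groth.Agent.H14.Sep.Descend

open Groth.Agent.Lib.FFDesc

theorem descendsAlong_fpqcCover (P : MorphismProperty Scheme.{u}) [IsZariskiLocalAtTarget P]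
    [P.IsStableUnderBaseChange] [P.DescendsAlong (@Surjective ⊓ @Flat ⊓ @QuasiCompact)] :
    P.DescendsAlong fpqcCover := by
  apply IsZariskiLocalAtTarget.descendsAlong
  intro R X Y f g hf h
  have := hf.flat
  have := hf.surjective
  obtain ⟨V, hV, himg⟩ := hf.exists_image_eq (U := ⊤) (by simpa using isCompact_univ)
  have : CompactSpace (V : Scheme.{u}) := isCompact_iff_compactSpace.mp hV
  have hq : QuasiCompact (V.ι ≫ f) := by rw [quasiCompact_iff_compactSpace]; infer_instance
  have hs : Surjective (V.ι ≫ f) := ⟨fun y => by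
    obtain ⟨x, hx, rfl⟩ := (Set.ext_iff.1 himg y).2 trivial
    exact ⟨⟨x, hx⟩, rfl⟩⟩
  refine MorphismProperty.of_pullback_fst_of_descendsAlong
    (Q := (@Surjective ⊓ @Flat ⊓ @QuasiCompact)) (f := V.ι ≫ f) (g := g)
    ⟨⟨hs, (inferInstance : Flat (V.ι ≫ f))⟩, hq⟩ ?_
  rw [← pullbackRightPullbackFstIso_inv_fst f g V.ι, P.cancel_left_of_respectsIso]
  exact P.pullback_fst _ _ h

/-- Being locally of finite type descends along smooth surjective morphisms. -/
theorem lft_of_isPullback_smooth {X' Y' X Y : Scheme.{u}} {g' : X' ⟶ X} {f' : X' ⟶ Y'}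
    {f : X ⟶ Y} {g : Y' ⟶ Y} (sq : IsPullback g' f' f g) [Smooth g] [Surjective g]
    (h : LocallyOfFiniteType f') : LocallyOfFiniteType f := by
  have := descendsAlong_fpqcCover @LocallyOfFiniteType
  exact MorphismProperty.of_isPullback_of_descendsAlong (P := @LocallyOfFiniteType) (Q := fpqcCover)
    sq.flip (fpqcCover_of_lfp g) h

end Groth.Agent.H14.Sep.Descend
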