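import Groth.Agent.H14.Sep.Main3
import Groth.Agent.H14.Sep.Descend
import Groth.Agent.Lib.AlgStack.IsAlgFp

/-!
The diagonal of an algebraic stack is locally of finite type.
-/

set_option autoImplicit false
set_option backward.isDefEq.respectTransparency false
set_option backward.isDefEq.respectTransparency.types false

universe v₂ w₂ v₁ w₁ u

open CategoryTheory CategoryTheory.Limits AlgebraicGeometry

namespace Groth.Agent.H14.Sep.Lft

open Groth.Agent.Lib.AlgStack
open SpProps DiagCat Main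
open FibCat (IsEquivOver fp fpFst fpSnd fpLift fpIso diag overCat IsFibGrpd toSelf)
open AlgSt (ofSp ofSpMap ofOverCat toOverCat spMapOfOver RepByAlgSp1 RepByAlgSpWith IsAlgStack)
open AlgSp (Sp yon IsAlgSpace LocP RepWith Representable Points)
open Lib.AlgStack.Diag (pair isoToProd overMap' prodToFp)

variable {S : Scheme.{u}}

/-- The functor of slices of a morphism of schemes over the base. -/
abbrev vOf {T' T : Over S} (s : T' ⟶ T) : overCat T' ⥤ᵇ overCat T :=
  BasedFunctor.comp (ofOverCat T') (BasedFunctor.comp (ofSpMap ((yon S).map s)) (toOverCat T))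

theorem vOf_comp {T'' T' T : Over S} (s₂ : T'' ⟶ T') (s₁ : T' ⟶ T) :
    BasedFunctor.comp (vOf s₂) (vOf s₁) = vOf (s₂ ≫ s₁) := by
  have h : ofSpMap ((yon S).map (s₂ ≫ s₁)) =
      BasedFunctor.comp (ofSpMap ((yon S).map s₂)) (ofSpMap ((yon S).map s₁)) := by
    rw [← OfPsh.ofPshMap_comp, ← ObjectProperty.FullSubcategory.comp_hom, ← Functor.map_comp]
  unfold vOf
  rw [h]
  rfl

variable {𝒳 : AlgSt.Cat S}

/-- After a smooth surjective base change a point of a stack lifts to a given atlas. -/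
theorem exists_lift {W : Over S} (a : overCat W ⥤ᵇ 𝒳)
    (ha : RepByAlgSpWith (LocP @Smooth) a) (has : RepByAlgSpWith AlgSp.IsSurjectiveMor a)
    {T : Over S} (x : overCat T ⥤ᵇ 𝒳) :
    ∃ (T' : Over S) (s : T' ⟶ T) (_ : Smooth s.left) (_ : Surjective s.left)
      (w : overCat T' ⥤ᵇ overCat W),
      Nonempty (BasedFunctor.comp (vOf s) x ≅ BasedFunctor.comp w a) := by
  obtain ⟨G, e, he, hsm⟩ := ha T x
  have hsu := Space.prop_of_rep IsAlgFp.respectsIsoSp_surjective has G.property he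
  obtain ⟨T', p, hp, hps⟩ := G.property.atlas
  let γ : G.obj ⟶ (yon S).obj T := spMapOfOver (BasedFunctor.comp e (fpFst x a))
  obtain ⟨s, hs⟩ := (yon S).map_surjective (p ≫ γ)
  have h1 : Smooth s.left :=
    hsm p (𝟙 _) s hp (AlgSp.repWith_id _ _) (by rw [Category.comp_id]; exact hs.symm)
  have h2 : Surjective s.left := ⟨fun t => by
    obtain ⟨g, hg⟩ := hsu (Points.schemeHomeo T t)
    obtain ⟨q, hq⟩ := Lib.AlgSpace.surjective_map hps g
    obtain ⟨t', rfl⟩ := (Points.schemeHomeo T').surjective q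
    refine ⟨t', (Points.schemeHomeo T).injective ?_⟩
    rw [← Points.map_yon_map_apply, ← hg, ← hq, hs, Points.map_comp]⟩
  let η : overCat T' ⥤ᵇ fp x a :=
    BasedFunctor.comp (ofOverCat T') (BasedFunctor.comp (ofSpMap p) e)
  have hv : spMapOfOver (BasedFunctor.comp (ofSpMap p) (BasedFunctor.comp e (fpFst x a))) =
      (yon S).map s := by rw [Rep.spMapOfOver_precomp, hs]
  let ι : BasedFunctor.comp η (fpFst x a) ≅ vOf s :=
    BasedBasic.isoWhiskerLeft (ofOverCat T')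
      (Rep.isoSpMapOfOver (BasedFunctor.comp (ofSpMap p) (BasedFunctor.comp e (fpFst x a))) ≪≫
        eqToIso (by rw [hv]))
  exact ⟨T', s, h1, h2, BasedFunctor.comp η (fpSnd x a),
    ⟨(BasedBasic.isoWhiskerRight ι x).symm ≪≫ BasedBasic.isoWhiskerLeft η (fpIso x a)⟩⟩

variable {W : Over S} (a : overCat W ⥤ᵇ 𝒳)

/-- The square of the atlas. -/
abbrev sqAtlas : fp (toSelf (overCat W)) (toSelf (overCat W)) ⥤ᵇ fp (toSelf 𝒳) (toSelf 𝒳) :=
  pair (BasedFunctor.comp (fpFst (toSelf (overCat W)) (toSelf (overCat W))) a)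
    (BasedFunctor.comp (fpSnd (toSelf (overCat W)) (toSelf (overCat W))) a)

theorem spMapOfOver_overMap' {F : Sp S} {U V : Over S} (Φ : ofSp F ⥤ᵇ overCat U) (g : U ⟶ V) :
    spMapOfOver (BasedFunctor.comp Φ (overMap' g)) = spMapOfOver Φ ≫ (yon S).map g := by
  apply ObjectProperty.hom_ext
  ext T x
  rfl

/-- The base change of the diagonal to the square of an atlas is locally of finite type. -/
theorem lft_fpFst_sqAtlas (ha : RepByAlgSpWith (LocP @Smooth) a) :
    RepByAlgSpWith (LocP @LocallyOfFiniteType) (fpFst (sqAtlas a) (diag (toSelf 𝒳))) := by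
  obtain ⟨R, e, he, hsm⟩ := ha W a
  let D := Lib.AlgStack.Diag.toDiagPullback a a
  let Φ := BasedFunctor.comp e (BasedFunctor.comp D (fpFst (sqAtlas a) (diag (toSelf 𝒳))))
  obtain ⟨i, hi, ⟨η⟩, ⟨ε⟩⟩ :=
    BasedBasic.IsEquivOver.exists_inverse (Lib.AlgStack.Diag.isEquivOver_prodToFp W W)
  let γ : R.obj ⟶ (yon S).obj (W ⨯ W) := spMapOfOver (BasedFunctor.comp Φ i)
  have h1 : γ ≫ (yon S).map prod.fst = spMapOfOver (BasedFunctor.comp e (fpFst a a)) := by
    rw [← spMapOfOver_overMap']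
    exact Rep.spMapOfOver_eq_of_iso (BasedBasic.isoWhiskerLeft Φ
      (BasedBasic.isoWhiskerRight ε (fpFst (toSelf (overCat W)) (toSelf (overCat W)))))
  have hlft : LocP @LocallyOfFiniteType γ :=
    Lib.AlgSpMor.LocP.locP_of_comp (P := @Smooth) (R := ⊤) SpProps.lft
      (fun f g h _ => by
        have := h
        exact locallyOfFiniteType_of_comp f g)
      R.property (IsAlgSpace.yon_obj _) (IsAlgSpace.yon_obj _) (g := (yon S).map prod.fst)
      (by rw [h1]; exact hsm) (fun _ _ _ _ _ _ _ _ => trivial)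
  have h2 : RepByAlgSpWith (LocP @LocallyOfFiniteType) (ofSpMap γ) :=
    Rep.ofSpMap_of R.property (IsAlgSpace.yon_obj _) γ fun U ξ P' p q sq =>
      Lib.AlgSpMor.LocP.locP_of_isPullback SpProps.lft R.property (IsAlgSpace.yon_obj _)
        (IsAlgSpace.yon_obj U) sq hlft
  have hb : IsEquivOver (BasedFunctor.comp (toOverCat (W ⨯ W)) (prodToFp W W)) :=
    BasedBasic.IsEquivOver.comp (Rep.isEquivOver_toOverCat _)
      (Lib.AlgStack.Diag.isEquivOver_prodToFp W W)
  exact (Rep.repByAlgSpWith_iff_of_isEquivOver (f := fpFst (sqAtlas a) (diag (toSelf 𝒳)))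
    (f' := ofSpMap γ)
    (BasedBasic.IsEquivOver.comp he (Lib.AlgStack.Diag.isEquivOver_toDiagPullback a a)) hb
    ((BasedBasic.isoWhiskerRight (Rep.isoSpMapOfOver (BasedFunctor.comp Φ i)) (prodToFp W W)).symm ≪≫
      BasedBasic.isoWhiskerLeft Φ ε)).2 h2

/-- The diagonal of an algebraic stack is locally of finite type. -/
theorem diag_toSelf_lft {J₀ : Precoverage Scheme.{u}} (h𝒳 : IsAlgStack J₀ 𝒳) :
    RepByAlgSpWith (LocP @LocallyOfFiniteType) (diag (toSelf 𝒳)) := fun T z => by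
  obtain ⟨G, e, he⟩ := h𝒳.diag T z
  refine ⟨G, e, he, ?_⟩
  set γ : G.obj ⟶ (yon S).obj T := spMapOfOver (BasedFunctor.comp e (fpFst z (diag (toSelf 𝒳))))
  obtain ⟨W, a, ha, has⟩ := h𝒳.atlas
  obtain ⟨T₁, s₁, _, _, u₁, ⟨α₁⟩⟩ :=
    exists_lift a ha has (BasedFunctor.comp z (fpFst (toSelf 𝒳) (toSelf 𝒳)))
  obtain ⟨T₂, s₂, _, _, u₂, ⟨α₂⟩⟩ := exists_lift a ha has
    (BasedFunctor.comp (vOf s₁) (BasedFunctor.comp z (fpSnd (toSelf 𝒳) (toSelf 𝒳))))
  let s := s₂ ≫ s₁
  have : Smooth s.left := by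
    rw [Over.comp_left]; infer_instance
  have : Surjective s.left := by
    rw [Over.comp_left]; infer_instance
  let w : overCat T₂ ⥤ᵇ fp (toSelf (overCat W)) (toSelf (overCat W)) :=
    pair (BasedFunctor.comp (vOf s₂) u₁) u₂
  let α : BasedFunctor.comp w (sqAtlas a) ≅ BasedFunctor.comp (vOf s) z :=
    isoToProd
      ((BasedBasic.isoWhiskerLeft (vOf s₂) α₁).symm ≪≫ BasedBasic.isoWhiskerRight
        (eqToIso (vOf_comp s₂ s₁)) (BasedFunctor.comp z (fpFst (toSelf 𝒳) (toSelf 𝒳))))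
      (α₂.symm ≪≫ BasedBasic.isoWhiskerRight (eqToIso (vOf_comp s₂ s₁))
        (BasedFunctor.comp z (fpSnd (toSelf 𝒳) (toSelf 𝒳))))
  -- transfer to the base change of `γ` along `s`
  have hA := Rep.repByAlgSpWith_fpFst w (lft_fpFst_sqAtlas a ha)
  have hB : RepByAlgSpWith (LocP @LocallyOfFiniteType)
      (fpFst (BasedFunctor.comp w (sqAtlas a)) (diag (toSelf 𝒳))) :=
    (Rep.repByAlgSpWith_iff_of_isEquivOver
      (f := fpFst (BasedFunctor.comp w (sqAtlas a)) (diag (toSelf 𝒳)))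
      (f' := fpFst w (fpFst (sqAtlas a) (diag (toSelf 𝒳))))
      (Rep.isEquivOver_pasteBase w (sqAtlas a) (diag (toSelf 𝒳))) BasedBasic.isEquivOver_id
      (eqToIso (Rep.pasteBase_fst w (sqAtlas a) (diag (toSelf 𝒳))).symm)).2 hA
  have hC : RepByAlgSpWith (LocP @LocallyOfFiniteType)
      (fpFst (BasedFunctor.comp (vOf s) z) (diag (toSelf 𝒳))) :=
    (Rep.repByAlgSpWith_iff_of_isEquivOver
      (f := fpFst (BasedFunctor.comp (vOf s) z) (diag (toSelf 𝒳)))
      (f' := fpFst (BasedFunctor.comp w (sqAtlas a)) (diag (toSelf 𝒳)))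
      (FibProd.isEquivOver_congrLeft α (diag (toSelf 𝒳))) BasedBasic.isEquivOver_id
      (eqToIso (FibProd.congrLeft_fst α (diag (toSelf 𝒳))).symm)).2 hB
  have hD : RepByAlgSpWith (LocP @LocallyOfFiniteType)
      (fpFst (vOf s) (fpFst z (diag (toSelf 𝒳)))) :=
    (Rep.repByAlgSpWith_iff_of_isEquivOver
      (f := fpFst (BasedFunctor.comp (vOf s) z) (diag (toSelf 𝒳)))
      (f' := fpFst (vOf s) (fpFst z (diag (toSelf 𝒳))))
      (Rep.isEquivOver_pasteBase (vOf s) z (diag (toSelf 𝒳))) BasedBasic.isEquivOver_id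
      (eqToIso (Rep.pasteBase_fst (vOf s) z (diag (toSelf 𝒳))).symm)).1 hC
  have sq := IsPullback.of_hasPullback γ ((yon S).map s)
  have := BasedBasic.IsEquivOver.full (Rep.isEquivOver_toOverCat T)
  have := BasedBasic.IsEquivOver.faithful (Rep.isEquivOver_toOverCat T)
  have h1 := Space.isEquivOver_sqLift (sq.map (sheafToPresheaf _ _)).flip
  have h2 := FibProd.isEquivOver_fpMap (toOverCat T₂) e (toOverCat T)
    (F := vOf s) (G := fpFst z (diag (toSelf 𝒳))) (F' := ofSpMap ((yon S).map s)) (G' := ofSpMap γ)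
    (Iso.refl _) (Rep.isoSpMapOfOver (BasedFunctor.comp e (fpFst z (diag (toSelf 𝒳)))))
    (Rep.isEquivOver_toOverCat T₂) he
  have hE : RepByAlgSpWith (LocP @LocallyOfFiniteType)
      (ofSpMap (pullback.snd γ ((yon S).map s))) :=
    (Rep.repByAlgSpWith_iff_of_isEquivOver (BasedBasic.IsEquivOver.comp h1 h2)
      (Rep.isEquivOver_toOverCat T₂) (Iso.refl _)).1 hD
  have hP : IsAlgSpace (pullback γ ((yon S).map s)) :=
    Lib.AlgSpace.isAlgSpace_of_isPullback sq (IsAlgSpace.yon_obj T).diag G.property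
      (IsAlgSpace.yon_obj T₂)
  have hq : LocP @LocallyOfFiniteType (pullback.snd γ ((yon S).map s)) :=
    Rep.prop_of_ofSpMap (IsAlgFp.respectsIsoSp_locP SpProps.lft) (fromSchemes_locP SpProps.lft)
      hP (IsAlgSpace.yon_obj T₂) _ hE
  -- descend along `s`
  obtain ⟨U, c, hc, hcs⟩ := G.property.atlas
  obtain ⟨m, hm⟩ := (yon S).map_surjective (c ≫ γ)
  refine Lib.AlgSpMor.LocP.locP_of_chart SpProps.lft G.property.diag (IsAlgSpace.yon_obj T).diag
    hc hcs (b := 𝟙 _) (h := m) (AlgSp.repWith_id _ _) (by rw [Category.comp_id, hm]) ?_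
  obtain ⟨U', fst, snd, sqU⟩ :=
    Lib.AlgSpace.exists_isPullback_yon (IsAlgSpace.yon_obj T).diag ((yon S).map m) ((yon S).map s)
  let c' : (yon S).obj U' ⟶ pullback γ ((yon S).map s) :=
    sq.lift ((yon S).map fst ≫ c) ((yon S).map snd) (by rw [Category.assoc, ← hm, sqU.w])
  have sqc : IsPullback ((yon S).map fst) c' c (pullback.fst γ ((yon S).map s)) :=
    IsPullback.of_bot (by simpa [c', hm] using sqU) (by simp [c']) sq
  have h' : LocallyOfFiniteType snd.left := hq c' (𝟙 _) snd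
    (Lib.AlgSpace.repWith_baseChange sqc hc) (AlgSp.repWith_id _ _)
    (by rw [Category.comp_id]; simp [c'])
  have : Smooth ((Over.forget S).map s) := ‹Smooth s.left›
  have : Surjective ((Over.forget S).map s) := ‹Surjective s.left›
  exact Descend.lft_of_isPullback_smooth
    ((Lib.AlgSpace.isPullback_of_yon_map sqU).map (Over.forget S)) h'

/-- The diagonal of a morphism of algebraic stacks is locally of finite type. -/
theorem diag_lft' {𝒴 : AlgSt.Cat S} (h𝒳 : IsAlgStack Scheme.fppfPrecoverage 𝒳)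
    (h𝒴 : IsAlgStack Scheme.fppfPrecoverage 𝒴) (f : 𝒳 ⥤ᵇ 𝒴) :
    RepByAlgSpWith (LocP @LocallyOfFiniteType) (diag f) := by
  have h1 : RepByAlgSpWith (LocP @LocallyOfFiniteType) (diag (BasedFunctor.comp f (toSelf 𝒴))) :=
    (Rep.diag_iff_of_isEquivOver BasedBasic.isEquivOver_id BasedBasic.isEquivOver_id
      (f := BasedFunctor.comp f (toSelf 𝒴)) (f' := toSelf 𝒳)
      (Lib.Fibred.Slice.selfIso _ _)).2 (diag_toSelf_lft h𝒳)
  exact diag_of_comp h𝒳.isStack.1 h𝒴.isStack.1 Main2.isFibGrpd_self good_lft.bc good_lft.fs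
    good_lft.comp h1 (diag_lft (Main2.diag_cmp_rep1 h𝒴.diag))

end Groth.Agent.H14.Sep.Lft
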