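import Groth.Agent.H14.Sep.Rep
import Groth.Agent.H14.Sep.SpProps2

/-!
Calculus of separation conditions of morphisms of categories fibred in groupoids over schemes.
-/

set_option autoImplicit false
set_option backward.isDefEq.respectTransparency false
set_option backward.isDefEq.respectTransparency.types false

universe v₂ w₂ v₁ w₁ u

open CategoryTheory CategoryTheory.Limits AlgebraicGeometry

namespace Groth.Agent.H14.Sep.Main

open Groth.Agent.Lib.AlgStack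
open SpProps DiagCat
open FibCat (IsEquivOver fp fpFst fpSnd fpLift fpIso diag overCat IsFibGrpd)
open AlgSt (ofSp ofSpMap RepByAlgSp1 RepByAlgSpWith)
open AlgSp (Sp IsAlgSpace LocP)

variable {S : Scheme.{u}} {P Q R : MorphismProperty (Sp S)}

/-- Properties behaving well for the calculus: stable under base change, testable on schemes and
stable under composition. -/
structure Good (P : MorphismProperty (Sp S)) : Prop where
  bc : StableBC P
  fs : FromSchemes P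
  comp : CompTo P P P

theorem Good.inf (hP : Good P) (hQ : Good Q) : Good (P ⊓ Q) :=
  ⟨stableBC_inf hP.bc hQ.bc, fromSchemes_inf hP.fs hQ.fs, compTo_inf hP.comp hQ.comp⟩

theorem good_locP {W : MorphismProperty Scheme.{u}}
    (hW : Lib.SourceDescent.Scheme.EtaleLocalST W) : Good (LocP W (S := S)) :=
  ⟨stableBC_locP hW, fromSchemes_locP hW, compTo_locP hW⟩

theorem good_lft : Good (LocP @LocallyOfFiniteType (S := S)) := good_locP SpProps.lft

theorem good_unramified : Good (LocP ((@LocallyOfFiniteType : MorphismProperty Scheme.{u}) ⊓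
    @FormallyUnramified) (S := S)) := good_locP Lib.AlgSpMor.LocP.unramified

theorem good_lqf : Good (LocP ((@LocallyQuasiFinite : MorphismProperty Scheme.{u}) ⊓
    @LocallyOfFiniteType) (S := S)) := good_locP Lib.AlgSpMor.LocP.lqfLft

theorem good_sep : Good (AlgSp.IsSeparatedMor (S := S)) := ⟨stableBC_sep, fromSchemes_sep, compTo_sep⟩

theorem good_qs : Good (AlgSp.IsQuasiSeparatedMor (S := S)) := ⟨stableBC_qs, fromSchemes_qs, compTo_qs⟩

theorem good_qc : Good (AlgSp.IsQuasiCompactMor (S := S)) := ⟨stableBC_qc, fromSchemes_qc, compTo_qc⟩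

theorem good_proper : Good (AlgSp.IsProperMor (S := S)) :=
  ⟨stableBC_proper, fromSchemes_proper, compTo_proper⟩

theorem good_mono : Good (MorphismProperty.monomorphisms (Sp S)) :=
  ⟨stableBC_mono, fromSchemes_mono, fun _ _ _ _ _ _ a b ha hb =>
    MorphismProperty.comp_mem _ a b ha hb⟩

theorem good_repWith (W : MorphismProperty Scheme.{u}) [W.IsStableUnderBaseChange]
    [W.IsStableUnderComposition] : Good (AlgSp.RepWith W (S := S)) :=
  ⟨SpProps2.stableBC_repWith W, SpProps2.fromSchemes_repWith W, SpProps2.compTo_repWith W⟩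

theorem good_affine : Good (AlgSp.IsAffineMor (S := S)) :=
  ⟨SpProps2.stableBC_affineShape, SpProps2.fromSchemes_affineShape, SpProps2.compTo_affine⟩

theorem good_integral : Good (AlgSp.IsIntegralMor (S := S)) :=
  ⟨SpProps2.stableBC_affineShape, SpProps2.fromSchemes_affineShape, SpProps2.compTo_integral⟩

theorem good_finite : Good (AlgSp.IsFiniteMor (S := S)) :=
  ⟨SpProps2.stableBC_affineShape, SpProps2.fromSchemes_affineShape, SpProps2.compTo_finite⟩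

theorem good_qcqs : Good (AlgSp.IsQuasiCompactMor ⊓ AlgSp.IsQuasiSeparatedMor (S := S)) :=
  good_qc.inf good_qs

section

variable {𝒳 𝒴 : AlgSt.Cat S} {𝒵 : BasedCategory.{v₁, w₁} (Over S)}

/-- Composition. -/
theorem Good.repComp (hP : Good P) (h𝒳 : IsFibGrpd 𝒳.p) (h𝒴 : IsFibGrpd 𝒴.p)
    {f : 𝒳 ⥤ᵇ 𝒴} {g : 𝒴 ⥤ᵇ 𝒵} (hf : RepByAlgSpWith P f) (hg : RepByAlgSpWith P g) :
    RepByAlgSpWith P (BasedFunctor.comp f g) :=
  Rep.comp h𝒳 h𝒴 (Rep.respectsIsoSp hP.bc) hP.fs hP.comp hf hg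

/-- The property of the diagonal of a composite. -/
theorem Good.diagComp {𝒵 : AlgSt.Cat S} (hP : Good P) (h𝒳 : IsFibGrpd 𝒳.p) (h𝒴 : IsFibGrpd 𝒴.p)
    {f : 𝒳 ⥤ᵇ 𝒴} {g : 𝒴 ⥤ᵇ 𝒵} (hf : RepByAlgSpWith P (diag f)) (hg : RepByAlgSpWith P (diag g)) :
    RepByAlgSpWith P (diag (BasedFunctor.comp f g)) :=
  Rep.repByAlgSpWith_of_iso (Rep.diagCompIso f g)
    (hP.repComp h𝒳 (FibProd.isFibGrpd_fp h𝒳 h𝒳 h𝒴) hf (Rep.cmp_of_diag f f hg))

/-- Cancellation along a triangle: from a property of the diagonal of the second morphism and of the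
composite to a property of the first. -/
theorem of_triangle {𝒵 : AlgSt.Cat S} (h𝒳 : IsFibGrpd 𝒳.p) (h𝒴 : IsFibGrpd 𝒴.p)
    (h𝒵 : IsFibGrpd 𝒵.p) (hQ : StableBC Q) (hQs : FromSchemes Q) (h : CompTo Q P R)
    {f : 𝒳 ⥤ᵇ 𝒴} {a : 𝒳 ⥤ᵇ 𝒵} {b : 𝒴 ⥤ᵇ 𝒵} (e : BasedFunctor.comp f b ≅ a)
    (ha : RepByAlgSpWith P a) (hb : RepByAlgSpWith Q (diag b)) : RepByAlgSpWith R f :=
  Rep.comp (g := fpSnd a b) h𝒳 (FibProd.isFibGrpd_fp h𝒳 h𝒴 h𝒵) (Rep.respectsIsoSp hQ) hQs h
    (Rep.graph_of_diag f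
      (show BasedFunctor.comp (BasedFunctor.id 𝒳) a ≅ BasedFunctor.comp f b from e.symm) hb)
    (Rep.fpSnd_of b ha)

/-- Properties of the diagonal of a morphism from properties of that of a composite. -/
theorem diag_of_comp {𝒵 : AlgSt.Cat S} (h𝒳 : IsFibGrpd 𝒳.p) (h𝒴 : IsFibGrpd 𝒴.p)
    (h𝒵 : IsFibGrpd 𝒵.p) (hQ : StableBC Q) (hQs : FromSchemes Q) (h : CompTo Q P R)
    {f : 𝒳 ⥤ᵇ 𝒴} {g : 𝒴 ⥤ᵇ 𝒵} (hfg : RepByAlgSpWith P (diag (BasedFunctor.comp f g)))
    (hg : RepByAlgSpWith Q (diag (cmp f f g))) : RepByAlgSpWith R (diag f) :=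
  of_triangle h𝒳 (FibProd.isFibGrpd_fp h𝒳 h𝒳 h𝒴) (FibProd.isFibGrpd_fp h𝒳 h𝒳 h𝒵) hQ hQs h
    (Rep.diagCompIso f g) hfg hg

end

/-! ### Sections -/

section Section

variable {𝒳 : BasedCategory.{v₁, w₁} (Over S)} {𝒯 : BasedCategory.{v₂, w₂} (Over S)}

theorem isEquivOver_fpSnd_id (f : 𝒳 ⥤ᵇ 𝒯) :
    IsEquivOver (fpSnd (BasedFunctor.id 𝒯) f) := by
  have : (fpSnd (BasedFunctor.id 𝒯) f).toFunctor.Faithful := ⟨fun {a b φ ψ} h => by
    refine FibProd.hom_ext ?_ h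
    have w1 := φ.hom.w
    have w2 := ψ.hom.w
    change φ.hom.fst ≫ b.obj.iso.hom = a.obj.iso.hom ≫ f.map φ.hom.snd at w1
    change ψ.hom.fst ≫ b.obj.iso.hom = a.obj.iso.hom ≫ f.map ψ.hom.snd at w2
    rw [show φ.hom.snd = ψ.hom.snd from h, ← w2] at w1
    exact (cancel_mono b.obj.iso.hom).1 w1⟩
  have : (fpSnd (BasedFunctor.id 𝒯) f).toFunctor.Full := ⟨fun {a b} m =>
    ⟨FibProd.homMk (a.obj.iso.hom ≫ f.map m ≫ b.obj.iso.inv) m (by
      change (a.obj.iso.hom ≫ f.map m ≫ b.obj.iso.inv) ≫ b.obj.iso.hom = a.obj.iso.hom ≫ f.map m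
      simp), rfl⟩⟩
  refine BasedBasic.isEquivOver_of _ fun η => ?_
  exact ⟨FibProd.objMk (f.obj η) η (Iso.refl _) (IsHomLift.id rfl), Iso.refl _, IsHomLift.id rfl⟩

/-- A section has every property of the diagonal. -/
theorem section_of_diag {f : 𝒳 ⥤ᵇ 𝒯} (s : 𝒯 ⥤ᵇ 𝒳)
    (e : BasedFunctor.comp s f ≅ BasedFunctor.id 𝒯) (h : RepByAlgSpWith P (diag f)) :
    RepByAlgSpWith P s :=
  (Rep.repByAlgSpWith_iff_of_isEquivOver (f := s) BasedBasic.isEquivOver_id (isEquivOver_fpSnd_id f)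
    (show BasedFunctor.comp (fpLift (BasedFunctor.id 𝒯) s
        (show BasedFunctor.comp (BasedFunctor.id 𝒯) (BasedFunctor.id 𝒯) ≅ BasedFunctor.comp s f
          from e.symm)) (fpSnd (BasedFunctor.id 𝒯) f) ≅
      BasedFunctor.comp (BasedFunctor.id 𝒯) s from Iso.refl _)).2
    (Rep.graph_of_diag s _ h)

end Section

/-! ### Diagonals of functors representable by algebraic spaces -/

section Rep1

variable {𝒳 : BasedCategory.{v₁, w₁} (Over S)} {𝒴 : BasedCategory.{v₂, w₂} (Over S)}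
  {c : 𝒳 ⥤ᵇ 𝒴}

theorem diag_mono (hc : RepByAlgSp1 c) :
    RepByAlgSpWith (MorphismProperty.monomorphisms (Sp S)) (diag c) :=
  Rep.diag_of_rep1 stableBC_mono hc fun _ _ γ _ _ => SpDiag.mono_diagonal γ

theorem diag_lft (hc : RepByAlgSp1 c) : RepByAlgSpWith (LocP @LocallyOfFiniteType) (diag c) :=
  Rep.diag_of_rep1 good_lft.bc hc fun _ _ γ hG _ => SpDiag.locP_diagonal_lft γ hG

theorem diag_unramified (hc : RepByAlgSp1 c) :
    RepByAlgSpWith (LocP ((@LocallyOfFiniteType : MorphismProperty Scheme.{u}) ⊓ @FormallyUnramified))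
      (diag c) :=
  Rep.diag_of_rep1 good_unramified.bc hc fun _ _ γ hG _ => SpDiag.locP_diagonal_unramified γ hG

theorem diag_lqf (hc : RepByAlgSp1 c) :
    RepByAlgSpWith (LocP ((@LocallyQuasiFinite : MorphismProperty Scheme.{u}) ⊓ @LocallyOfFiniteType))
      (diag c) :=
  Rep.diag_of_rep1 good_lqf.bc hc fun _ _ γ hG _ => SpDiag.locP_diagonal_lqf γ hG

theorem diag_sep (hc : RepByAlgSp1 c) : RepByAlgSpWith AlgSp.IsSeparatedMor (diag c) :=
  Rep.diag_of_rep1 stableBC_sep hc fun _ _ γ _ _ => SpDiag.isSeparatedMor_diagonal γ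

theorem diag_qs (hc : RepByAlgSp1 c) : RepByAlgSpWith AlgSp.IsQuasiSeparatedMor (diag c) :=
  Rep.diag_of_rep1 stableBC_qs hc fun _ _ γ _ _ => SpDiag.isQuasiSeparatedMor_of_mono _

end Rep1

end Groth.Agent.H14.Sep.Main
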