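import Groth.Agent.H14.Sep.SpProps
import Groth.Agent.Lib.AlgSpMor.Cancel

/-!
The diagonal of a morphism of algebraic spaces is representable, a monomorphism, locally of finite type;
properties of representable monomorphisms.
-/

universe u

open CategoryTheory CategoryTheory.Limits AlgebraicGeometry

namespace Groth.Agent.H14.Sep.SpDiag

open Groth.Agent.Lib.AlgSpace Groth.Agent.Lib.AlgSpMor
open AlgSp (Sp yon IsAlgSpace Representable RepWith LocP UnivSp)

variable {S : Scheme.{u}}

/-- The diagonal of a morphism has every property of the absolute diagonal of its source. -/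
theorem repWith_diagonal_of_diag {P : MorphismProperty Scheme.{u}} [P.IsStableUnderBaseChange]
    {G F : Sp S} (γ : G ⟶ F) (h : RepWith P (Limits.diag G)) : RepWith P (pullback.diagonal γ) := by
  have : Mono (prod.lift (pullback.fst γ γ) (pullback.snd γ γ)) := ⟨fun x y e => by
    apply pullback.hom_ext
    · simpa [prod.lift_fst] using congrArg (· ≫ Limits.prod.fst) e
    · simpa [prod.lift_snd] using congrArg (· ≫ Limits.prod.snd) e⟩
  have sq : IsPullback (𝟙 G) (pullback.diagonal γ) (Limits.diag G)
      (prod.lift (pullback.fst γ γ) (pullback.snd γ γ)) := by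
    refine isPullback_of_yon (prod.hom_ext ?_ ?_) (fun T x x' e _ => by simpa using e)
      (fun T y z e => ⟨y, by simp, ?_⟩)
    · simp [prod.lift_fst, pullback.diagonal_fst]
    · simp [prod.lift_snd, pullback.diagonal_snd]
    · rw [← cancel_mono (prod.lift (pullback.fst γ γ) (pullback.snd γ γ)), Category.assoc]
      refine Eq.trans (congrArg (y ≫ ·) ?_) e
      apply prod.hom_ext
      · simp [prod.lift_fst, pullback.diagonal_fst]
      · simp [prod.lift_snd, pullback.diagonal_snd]
  exact repWith_baseChange sq h

variable {G F : Sp S} (γ : G ⟶ F)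

theorem representable_diagonal (hG : IsAlgSpace G) : Representable (pullback.diagonal γ) :=
  (repWith_diagonal_of_diag γ (repWith_diag_monomorphisms hG.diag)).1

theorem repWith_diagonal_monomorphisms (hG : IsAlgSpace G) :
    RepWith (MorphismProperty.monomorphisms Scheme.{u}) (pullback.diagonal γ) :=
  repWith_diagonal_of_diag γ (repWith_diag_monomorphisms hG.diag)

theorem mono_diagonal : Mono (pullback.diagonal γ) := inferInstance

theorem repWith_diagonal_lft (hG : IsAlgSpace G) :
    RepWith @LocallyOfFiniteType (pullback.diagonal γ) :=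
  repWith_diagonal_of_diag γ (repWith_diag_locallyOfFiniteType hG)

theorem locP_diagonal_lft (hG : IsAlgSpace G) :
    LocP @LocallyOfFiniteType (pullback.diagonal γ) :=
  LocP.locP_of_repWith SpProps.lft (repWith_diagonal_lft γ hG)

theorem formallyUnramified_of_mono {X Y : Scheme.{u}} (f : X ⟶ Y) [Mono f] :
    FormallyUnramified f :=
  inferInstance

theorem locP_diagonal_unramified (hG : IsAlgSpace G) :
    LocP ((@LocallyOfFiniteType : MorphismProperty Scheme.{u}) ⊓ @FormallyUnramified)
      (pullback.diagonal γ) :=
  Cancel.locP_of_repWith_le LocP.unramified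
    (repWith_inf_iff.2 ⟨repWith_diagonal_lft γ hG, repWith_diagonal_monomorphisms γ hG⟩)
    fun _ _ g hg => ⟨hg.1, have := hg.2; formallyUnramified_of_mono g⟩

theorem locP_diagonal_lqf (hG : IsAlgSpace G) :
    LocP ((@LocallyQuasiFinite : MorphismProperty Scheme.{u}) ⊓ @LocallyOfFiniteType)
      (pullback.diagonal γ) :=
  Cancel.locP_of_repWith_le LocP.lqfLft
    (repWith_inf_iff.2 ⟨repWith_diagonal_lft γ hG, repWith_diagonal_monomorphisms γ hG⟩)
    fun _ _ g hg => by
      have := hg.1
      have := hg.2
      have := formallyUnramified_of_mono g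
      exact ⟨locallyQuasiFinite_of_formallyUnramified g, hg.1⟩

theorem repWith_diagonal_of_mono (P : MorphismProperty Scheme.{u}) [P.IsStableUnderBaseChange]
    [P.ContainsIdentities] {X Y : Sp S} (m : X ⟶ Y) [Mono m] : RepWith P (pullback.diagonal m) :=
  repWith_of_isIso P _

theorem isSeparatedMor_of_mono {X Y : Sp S} (m : X ⟶ Y) [Mono m] : AlgSp.IsSeparatedMor m :=
  repWith_diagonal_of_mono @IsClosedImmersion m

theorem isQuasiSeparatedMor_of_mono {X Y : Sp S} (m : X ⟶ Y) [Mono m] :
    AlgSp.IsQuasiSeparatedMor m :=
  repWith_diagonal_of_mono @QuasiCompact m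

theorem isSeparatedMor_diagonal : AlgSp.IsSeparatedMor (pullback.diagonal γ) :=
  isSeparatedMor_of_mono _

end Groth.Agent.H14.Sep.SpDiag
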