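import Groth.Agent.H14.Sep.DiagCat
import Groth.Agent.H14.Sep.SpProps
import Groth.Agent.H14.Sep.SpDiag
import Groth.Agent.Lib.AlgStack.Space
import Groth.Prelude.Def_AlgSt3

/-!
Representability by algebraic spaces of composites, relative diagonals, comparison maps and graphs.
-/

set_option autoImplicit false
set_option backward.isDefEq.respectTransparency false
set_option backward.isDefEq.respectTransparency.types false

universe v₄ w₄ v₃ w₃ v₂ w₂ v₁ w₁ u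

open CategoryTheory CategoryTheory.Limits AlgebraicGeometry

namespace Groth.Agent.H14.Sep.Rep

open Groth.Agent.Lib.AlgStack
open SpProps DiagCat
open FibCat (IsEquivOver fp fpFst fpSnd fpLift fpIso diag overCat IsFibGrpd)
open AlgSt (ofSp ofSch ofSpMap toOverCat ofOverCat spMapOfOver RepByAlgSp RepByAlgSp1 RepByAlgSpWith)
open AlgSp (Sp yon IsAlgSpace)

variable {S : Scheme.{u}}

theorem full_id (𝒳 : BasedCategory.{v₁, w₁} (Over S)) : (BasedFunctor.id 𝒳).toFunctor.Full :=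
  inferInstanceAs (𝟭 𝒳.obj).Full

theorem faithful_id (𝒳 : BasedCategory.{v₁, w₁} (Over S)) :
    (BasedFunctor.id 𝒳).toFunctor.Faithful :=
  inferInstanceAs (𝟭 𝒳.obj).Faithful

/-! ### Base changes of the diagonal -/

section Diag

variable {𝒳 : BasedCategory.{v₁, w₁} (Over S)} {𝒴 : BasedCategory.{v₂, w₂} (Over S)}
  {𝒵 : BasedCategory.{v₃, w₃} (Over S)} {𝒯 : BasedCategory.{v₄, w₄} (Over S)}
  {P : MorphismProperty (Sp S)}

theorem of_toBase {q : 𝒴 ⥤ᵇ 𝒯} {d : 𝒵 ⥤ᵇ 𝒯} {a : 𝒳 ⥤ᵇ 𝒴} {E : 𝒳 ⥤ᵇ fp q d} (hE : IsEquivOver E)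
    (e : BasedFunctor.comp a (BasedFunctor.id 𝒴) ≅ BasedFunctor.comp E (fpFst q d))
    (hd : RepByAlgSpWith P d) : RepByAlgSpWith P a :=
  (Rep.repByAlgSpWith_iff_of_isEquivOver hE BasedBasic.isEquivOver_id e).1
    (Rep.repByAlgSpWith_fpFst q hd)

/-- The diagonal of a projection. -/
theorem diag_fpFst {f : 𝒳 ⥤ᵇ 𝒵} (g : 𝒴 ⥤ᵇ 𝒵) (hf : RepByAlgSpWith P (diag f)) :
    RepByAlgSpWith P (diag (fpFst g f)) :=
  of_toBase (isEquivOver_projToBase f g) (Iso.refl _) hf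

/-- The comparison functor of fibre products. -/
theorem cmp_of_diag (f : 𝒳 ⥤ᵇ 𝒵) (g : 𝒴 ⥤ᵇ 𝒵) {t : 𝒵 ⥤ᵇ 𝒯} (ht : RepByAlgSpWith P (diag t)) :
    RepByAlgSpWith P (cmp f g t) :=
  of_toBase (isEquivOver_cmpToBase f g t) (Iso.refl _) ht

/-- The graph. -/
theorem graph_of_diag {p : 𝒳 ⥤ᵇ 𝒯} {q : 𝒴 ⥤ᵇ 𝒯} (g : 𝒳 ⥤ᵇ 𝒴)
    (e : BasedFunctor.comp (BasedFunctor.id 𝒳) p ≅ BasedFunctor.comp g q)
    (hq : RepByAlgSpWith P (diag q)) : RepByAlgSpWith P (fpLift (BasedFunctor.id 𝒳) g e) :=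
  of_toBase (isEquivOver_graphToBase g e) (Iso.refl _) hq

/-- The second projection. -/
theorem fpSnd_of {p : 𝒳 ⥤ᵇ 𝒯} (q : 𝒴 ⥤ᵇ 𝒯) (hp : RepByAlgSpWith P p) :
    RepByAlgSpWith P (fpSnd p q) :=
  (Rep.repByAlgSpWith_iff_of_isEquivOver (FibProd.isEquivOver_swap p q) BasedBasic.isEquivOver_id
    (show BasedFunctor.comp (fpSnd p q) (BasedFunctor.id 𝒴) ≅
      BasedFunctor.comp (FibProd.swap p q) (fpFst q p) from Iso.refl _)).1
    (Rep.repByAlgSpWith_fpFst q hp)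

/-- The diagonal of a composite. -/
def diagCompIso (f : 𝒳 ⥤ᵇ 𝒵) (g : 𝒵 ⥤ᵇ 𝒯) :
    BasedFunctor.comp (diag f) (cmp f f g) ≅ diag (BasedFunctor.comp f g) :=
  Lib.Fibred.Slice.fpIsoMk (Iso.refl (BasedFunctor.id 𝒳)) (Iso.refl (BasedFunctor.id 𝒳)) (fun x => by
    change g.map (f.map (𝟙 x)) ≫ 𝟙 _ = g.map (𝟙 (f.obj x)) ≫ g.map (f.map (𝟙 x))
    simp)

end Diag

section Invariance

variable {𝒳 : BasedCategory.{v₁, w₁} (Over S)} {𝒴 : BasedCategory.{v₂, w₂} (Over S)}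
  {𝒳' : BasedCategory.{v₃, w₃} (Over S)} {𝒴' : BasedCategory.{v₄, w₄} (Over S)}
  {P : MorphismProperty (Sp S)}

/-- Invariance of the property of the diagonal under equivalences. -/
theorem diag_iff_of_isEquivOver {a : 𝒳' ⥤ᵇ 𝒳} {b : 𝒴' ⥤ᵇ 𝒴} {f : 𝒳 ⥤ᵇ 𝒴} {f' : 𝒳' ⥤ᵇ 𝒴'}
    (ha : IsEquivOver a) (hb : IsEquivOver b)
    (e : BasedFunctor.comp f' b ≅ BasedFunctor.comp a f) :
    RepByAlgSpWith P (diag f) ↔ RepByAlgSpWith P (diag f') := by
  have := BasedBasic.IsEquivOver.full hb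
  have := BasedBasic.IsEquivOver.faithful hb
  refine Rep.repByAlgSpWith_iff_of_isEquivOver ha
    (FibProd.isEquivOver_fpMap a a b e.symm e.symm ha ha)
    (Lib.Fibred.Slice.fpIsoMk (Iso.refl a) (Iso.refl a) fun x => ?_)
  change f.map (𝟙 (a.obj x)) ≫ 𝟙 _ =
    ((BasedBasic.appIso e x).inv ≫ b.map (𝟙 (f'.obj x)) ≫ (BasedBasic.appIso e x).hom) ≫
      f.map (𝟙 (a.obj x))
  have h1 : b.map (𝟙 (f'.obj x)) = 𝟙 (b.obj (f'.obj x)) := b.toFunctor.map_id _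
  have h2 : f.map (𝟙 (a.obj x)) = 𝟙 (f.obj (a.obj x)) := f.toFunctor.map_id _
  rw [h1, h2]
  simp
  erw [Category.id_comp, Category.comp_id]
  exact ((BasedBasic.appIso e x).inv_hom_id).symm

end Invariance

/-! ### Composition -/

theorem comp {𝒳 𝒴 : AlgSt.Cat S} {𝒵 : BasedCategory.{v₁, w₁} (Over S)} (h𝒳 : IsFibGrpd 𝒳.p)
    (h𝒴 : IsFibGrpd 𝒴.p) {P Q R : MorphismProperty (Sp S)} (hPr : Space.RespectsIsoSp P)
    (hPs : FromSchemes P) (h : CompTo P Q R) {f : 𝒳 ⥤ᵇ 𝒴} {g : 𝒴 ⥤ᵇ 𝒵}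
    (hf : RepByAlgSpWith P f) (hg : RepByAlgSpWith Q g) :
    RepByAlgSpWith R (BasedFunctor.comp f g) := fun U y => by
  obtain ⟨A, e, he, hQ⟩ := hg U y
  obtain ⟨G, b, t, ht, ⟨β⟩, hP⟩ := Space.exists_rep_toSpace h𝒳 h𝒴
    (Rep.repByAlgSp1_of_repByAlgSpWith hf) (BasedFunctor.comp e (fpSnd y g))
  have := full_id 𝒴
  have := faithful_id 𝒴
  have h1 := FibProd.isEquivOver_fpMap e (BasedFunctor.id 𝒳) (BasedFunctor.id 𝒴)
    (F := fpSnd y g) (G := f) (F' := BasedFunctor.comp e (fpSnd y g)) (G' := f)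
    (Iso.refl _) (Iso.refl _) he BasedBasic.isEquivOver_id
  refine ⟨G, BasedFunctor.comp t (BasedFunctor.comp _ (Rep.pasteComp y g f)),
    BasedBasic.IsEquivOver.comp ht (BasedBasic.IsEquivOver.comp h1 (Rep.isEquivOver_pasteComp y g f)),
    ?_⟩
  show R (spMapOfOver (BasedFunctor.comp (BasedFunctor.comp t (fpFst (BasedFunctor.comp e (fpSnd y g)) f))
    (BasedFunctor.comp e (fpFst y g))))
  rw [Rep.spMapOfOver_eq_of_iso (BasedBasic.isoWhiskerRight β (BasedFunctor.comp e (fpFst y g))),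
    Rep.spMapOfOver_precomp]
  exact h G.property A.property (IsAlgSpace.yon_obj U) b _
    (hPs b G.property A.property fun V ξ P' p q sq => hP P hPr hf ξ p q sq) hQ

/-! ### Maps of algebraic spaces -/

theorem respectsIsoSp {P : MorphismProperty (Sp S)} (hP : StableBC P) : Space.RespectsIsoSp P :=
  Space.respectsIsoSp_of_baseChange hP

theorem exists_rep_ofSpMap {A B : Sp S} (a : A ⟶ B) {U : Over S} (y : overCat U ⥤ᵇ ofSp B)
    {ξ : (yon S).obj U ⟶ B} (α : BasedFunctor.comp (toOverCat U) y ≅ ofSpMap ξ) {P' : Sp S}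
    {p : P' ⟶ A} {q : P' ⟶ (yon S).obj U} (sq : IsPullback p q a ξ) :
    ∃ e : ofSp P' ⥤ᵇ fp y (ofSpMap a), IsEquivOver e ∧
      spMapOfOver (BasedFunctor.comp e (fpFst y (ofSpMap a))) = q := by
  have h1 := Space.isEquivOver_sqLift (sq.map (sheafToPresheaf _ _)).flip
  have := full_id (ofSp B)
  have := faithful_id (ofSp B)
  have h2 := FibProd.isEquivOver_fpMap (toOverCat U) (BasedFunctor.id (ofSp A))
    (BasedFunctor.id (ofSp B)) (F := y) (G := ofSpMap a) (F' := ofSpMap ξ) (G' := ofSpMap a)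
    α (Iso.refl _) (Rep.isEquivOver_toOverCat U) BasedBasic.isEquivOver_id
  refine ⟨_, BasedBasic.IsEquivOver.comp h1 h2, ?_⟩
  show spMapOfOver (BasedFunctor.comp (ofSpMap q) (toOverCat U)) = q
  exact Rep.spMapOfOver_ofSpMap_toOverCat q

theorem ofSpMap_of {P : MorphismProperty (Sp S)} {A B : Sp S} (hA : IsAlgSpace A)
    (hB : IsAlgSpace B) (a : A ⟶ B)
    (h : ∀ ⦃U : Over S⦄ (ξ : (yon S).obj U ⟶ B) ⦃P' : Sp S⦄ (p : P' ⟶ A) (q : P' ⟶ (yon S).obj U),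
      IsPullback p q a ξ → P q) : RepByAlgSpWith P (ofSpMap a) := fun U y => by
  let ξ : (yon S).obj U ⟶ B := Space.spHom (BasedFunctor.comp (toOverCat U) y)
  have sq := IsPullback.of_hasPullback a ξ
  obtain ⟨e, he, hq⟩ := exists_rep_ofSpMap a y
    (OfPsh.isoOfPshMap (BasedFunctor.comp (toOverCat U) y)) sq
  exact ⟨⟨pullback a ξ,
    Lib.AlgSpace.isAlgSpace_of_isPullback sq hB.diag hA (IsAlgSpace.yon_obj U)⟩, e, he,
    by rw [hq]; exact h ξ _ _ sq⟩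

theorem prop_of_ofSpMap {P : MorphismProperty (Sp S)} (hPr : Space.RespectsIsoSp P)
    (hPs : FromSchemes P) {A B : Sp S} (hA : IsAlgSpace A) (hB : IsAlgSpace B) (a : A ⟶ B)
    (h : RepByAlgSpWith P (ofSpMap a)) : P a :=
  hPs a hA hB fun U ξ P' p q sq => by
    obtain ⟨e, he, hq⟩ := exists_rep_ofSpMap a (BasedFunctor.comp (ofOverCat U) (ofSpMap ξ))
      (show BasedFunctor.comp (toOverCat U) (BasedFunctor.comp (ofOverCat U) (ofSpMap ξ)) ≅ ofSpMap ξ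
        from Iso.refl _) sq
    rw [← hq]
    exact Space.prop_of_rep hPr h
      (Lib.AlgSpace.isAlgSpace_of_isPullback sq hB.diag hA (IsAlgSpace.yon_obj U)) he

theorem eqToHom_hom {F : Sp S} {x y : (ofSp F).obj} (h : x = y) :
    (eqToHom h : x ⟶ y).hom = eqToHom (congrArg Stk.EltObj.base h) := by
  subst h; rfl

/-- The diagonal of the functor of a map of sheaves. -/
theorem diag_ofSpMap_iff {Q : MorphismProperty (Sp S)} {G F : Sp S} (γ : G ⟶ F) :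
    RepByAlgSpWith Q (diag (ofSpMap γ)) ↔ RepByAlgSpWith Q (ofSpMap (pullback.diagonal γ)) := by
  have sq := IsPullback.of_hasPullback γ γ
  have e₁ : BasedFunctor.comp (ofSpMap (pullback.diagonal γ)) (ofSpMap (pullback.fst γ γ)) =
      BasedFunctor.comp (BasedFunctor.id (ofSp G)) (BasedFunctor.id (ofSp G)) := by
    rw [← OfPsh.ofPshMap_comp, ← ObjectProperty.FullSubcategory.comp_hom, pullback.diagonal_fst]
    rfl
  have e₂ : BasedFunctor.comp (ofSpMap (pullback.diagonal γ)) (ofSpMap (pullback.snd γ γ)) =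
      BasedFunctor.comp (BasedFunctor.id (ofSp G)) (BasedFunctor.id (ofSp G)) := by
    rw [← OfPsh.ofPshMap_comp, ← ObjectProperty.FullSubcategory.comp_hom, pullback.diagonal_snd]
    rfl
  refine Rep.repByAlgSpWith_iff_of_isEquivOver (f := diag (ofSpMap γ))
    BasedBasic.isEquivOver_id (Space.isEquivOver_sqLift (sq.map (sheafToPresheaf _ _)))
    (Lib.Fibred.Slice.fpIsoMk (eqToIso e₁) (eqToIso e₂) fun x => ?_)
  apply Stk.EltObj.hom_ext
  simp [Space.sqLift, FibCat.diag, fpLift, Stk.ofPshMap, Lib.Fibred.EquivOver.appIso]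
  erw [Space.eqToHom_app_hom, Space.eqToHom_app_hom, Space.eqToHom_app_hom]
  simp
  erw [Category.comp_id]

/-- The diagonal of the functor of a map of algebraic spaces. -/
theorem diag_ofSpMap {Q : MorphismProperty (Sp S)} (hQ : StableBC Q) {G F : Sp S}
    (hG : IsAlgSpace G) (hF : IsAlgSpace F) (γ : G ⟶ F) (h : Q (pullback.diagonal γ)) :
    RepByAlgSpWith Q (diag (ofSpMap γ)) := by
  have hP : IsAlgSpace (pullback γ γ) :=
    Lib.AlgSpace.isAlgSpace_of_isPullback (IsPullback.of_hasPullback γ γ) hF.diag hG hG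
  exact (diag_ofSpMap_iff γ).2 (ofSpMap_of hG hP _ fun U ξ P' p q sq' => hQ hG hP
    (Lib.AlgSpace.isAlgSpace_of_isPullback sq' hP.diag hG (IsAlgSpace.yon_obj U))
    (IsAlgSpace.yon_obj U) _ ξ q p sq' h)

/-! ### The diagonal of a functor representable by algebraic spaces -/

theorem diag_of_rep {P Q : MorphismProperty (Sp S)} (hQ : StableBC Q)
    {𝒳 : BasedCategory.{v₁, w₁} (Over S)} {𝒴 : BasedCategory.{v₂, w₂} (Over S)} {c : 𝒳 ⥤ᵇ 𝒴}
    (hc : RepByAlgSpWith P c)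
    (h : ∀ ⦃G F : Sp S⦄ (γ : G ⟶ F), IsAlgSpace G → IsAlgSpace F → P γ → Q (pullback.diagonal γ)) :
    RepByAlgSpWith Q (diag c) := fun U y => by
  let g : overCat U ⥤ᵇ 𝒴 := BasedFunctor.comp y (BasedFunctor.comp (fpFst c c) c)
  obtain ⟨G, e, he, hP₀⟩ := hc U g
  let γ : G.obj ⟶ (yon S).obj U := spMapOfOver (BasedFunctor.comp e (fpFst g c))
  have hγ : RepByAlgSpWith Q (diag (fpFst g c)) :=
    (diag_iff_of_isEquivOver he (Rep.isEquivOver_toOverCat U)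
      (Rep.isoSpMapOfOver (BasedFunctor.comp e (fpFst g c))).symm).2
        (diag_ofSpMap hQ G.property (IsAlgSpace.yon_obj U) γ
          (h γ G.property (IsAlgSpace.yon_obj U) hP₀))
  let l₁ : overCat U ⥤ᵇ fp g c :=
    fpLift (BasedFunctor.id _) (BasedFunctor.comp y (fpFst c c)) (Iso.refl g)
  let l₂ : overCat U ⥤ᵇ fp g c :=
    fpLift (BasedFunctor.id _) (BasedFunctor.comp y (fpSnd c c))
      (BasedBasic.isoWhiskerLeft y (fpIso c c))
  let σ : overCat U ⥤ᵇ fp (fpFst g c) (fpFst g c) := fpLift l₁ l₂ (Iso.refl (BasedFunctor.id (overCat U)))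
  let α : BasedFunctor.comp σ (projBase c g) ≅ y :=
    Lib.Fibred.Slice.fpIsoMk (Iso.refl (BasedFunctor.comp y (fpFst c c)))
      (Iso.refl (BasedFunctor.comp y (fpSnd c c))) fun u => by
      change c.map (𝟙 _) ≫ (y.obj u).obj.iso.hom =
        (𝟙 _ ≫ g.map (𝟙 u) ≫ (y.obj u).obj.iso.hom) ≫ c.map (𝟙 _)
      simp
  obtain ⟨F, e', he', hP⟩ := hγ U σ
  have := full_id (fp (fpFst g c) (fpFst g c))
  have := faithful_id (fp (fpFst g c) (fpFst g c))
  have h1 := FibProd.isEquivOver_fpMap (BasedFunctor.id (overCat U)) (projToBase c g)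
    (BasedFunctor.id (fp (fpFst g c) (fpFst g c))) (F := σ) (G := fpFst (projBase c g) (diag c))
    (F' := σ) (G' := diag (fpFst g c)) (Iso.refl _) (Iso.refl _)
    BasedBasic.isEquivOver_id (isEquivOver_projToBase c g)
  have h2 := Rep.isEquivOver_pasteBase σ (projBase c g) (diag c)
  have h3 := FibProd.isEquivOver_congrLeft α (diag c)
  exact ⟨F, BasedFunctor.comp e' (BasedFunctor.comp _ (BasedFunctor.comp
    (Rep.pasteBase σ (projBase c g) (diag c)) (FibProd.congrLeft α (diag c)))),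
    BasedBasic.IsEquivOver.comp he' (BasedBasic.IsEquivOver.comp h1
      (BasedBasic.IsEquivOver.comp h2 h3)), hP⟩

theorem diag_of_rep1 {Q : MorphismProperty (Sp S)} (hQ : StableBC Q)
    {𝒳 : BasedCategory.{v₁, w₁} (Over S)} {𝒴 : BasedCategory.{v₂, w₂} (Over S)} {c : 𝒳 ⥤ᵇ 𝒴}
    (hc : RepByAlgSp1 c)
    (h : ∀ ⦃G F : Sp S⦄ (γ : G ⟶ F), IsAlgSpace G → IsAlgSpace F → Q (pullback.diagonal γ)) :
    RepByAlgSpWith Q (diag c) :=
  diag_of_rep hQ (Rep.repByAlgSpWith_top_iff.2 hc) fun _ _ γ hG hF _ => h γ hG hF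

theorem prop_diagonal_of_diag {Q : MorphismProperty (Sp S)} (hQ : StableBC Q) (hQs : FromSchemes Q)
    {𝒳 : BasedCategory.{v₁, w₁} (Over S)} {𝒴 : BasedCategory.{v₂, w₂} (Over S)} {c : 𝒳 ⥤ᵇ 𝒴}
    (h : RepByAlgSpWith Q (diag c)) {U : Over S} (g : overCat U ⥤ᵇ 𝒴) {G : AlgSp.Space S}
    (e : ofSp G.obj ⥤ᵇ fp g c) (he : IsEquivOver e) :
    Q (pullback.diagonal (spMapOfOver (BasedFunctor.comp e (fpFst g c)))) := by
  have h1 : RepByAlgSpWith Q (diag (fpFst g c)) := diag_fpFst g h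
  have h2 := (diag_iff_of_isEquivOver he (Rep.isEquivOver_toOverCat U)
    (Rep.isoSpMapOfOver (BasedFunctor.comp e (fpFst g c))).symm).1 h1
  exact prop_of_ofSpMap (respectsIsoSp hQ) hQs G.property
    (Lib.AlgSpace.isAlgSpace_of_isPullback (IsPullback.of_hasPullback _ _)
      (IsAlgSpace.yon_obj U).diag G.property G.property) _ ((diag_ofSpMap_iff _).1 h2)

end Groth.Agent.H14.Sep.Rep
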