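import Groth.Agent.H14.Sep.Main4
import Groth.Agent.H14.Sep.SelfBC
import Groth.Agent.Lib.Fibred.SelfOver

/-!
The inertia as a base change of the diagonal along itself.
-/

set_option autoImplicit false
set_option backward.isDefEq.respectTransparency false
set_option backward.isDefEq.respectTransparency.types false

universe v₂ w₂ v₁ w₁ u

open CategoryTheory CategoryTheory.Limits AlgebraicGeometry

namespace Groth.Agent.H14.Sep.Inertia

open Groth.Agent.Lib.AlgStack
open SpProps DiagCat Main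
open FibCat (IsEquivOver fp fpFst fpSnd fpLift fpIso diag overCat IsFibGrpd toSelf inertia
  inertiaToBase inertiaNeutral InertiaObj)
open AlgSt (ofSp ofSpMap toOverCat spMapOfOver RepByAlgSp1 RepByAlgSpWith)
open AlgSp (Sp yon IsAlgSpace LocP RepWith)

variable {S : Scheme.{u}}

section Cat

variable {𝒳 : BasedCategory.{v₁, w₁} (Over S)} {𝒴 : BasedCategory.{v₂, w₂} (Over S)}
  (f : 𝒳 ⥤ᵇ 𝒴)

/-- The automorphism as a natural isomorphism. -/
def autIso : BasedFunctor.comp (inertiaToBase f) (BasedFunctor.id 𝒳) ≅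
    BasedFunctor.comp (inertiaToBase f) (BasedFunctor.id 𝒳) :=
  BasedNatIso.mkNatIso (NatIso.ofComponents (fun z => z.aut) (fun m => m.comm.symm))
    (fun z => Lib.Fibred.SelfOver.aut_isHomLift z rfl)

/-- From the inertia to the square of the diagonal. -/
def toDiagSq : inertia f ⥤ᵇ fp (diag f) (diag f) :=
  fpLift (inertiaToBase f) (inertiaToBase f)
    (Lib.Fibred.Slice.fpIsoMk (autIso f) (Iso.refl _) fun z => by
      change f.map z.aut.hom ≫ 𝟙 _ = 𝟙 _ ≫ f.map (𝟙 _)
      rw [z.map_aut]; simp)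

theorem isEquivOver_toDiagSq : IsEquivOver (toDiagSq f) := by
  have : (toDiagSq f).toFunctor.Faithful :=
    ⟨fun {a b φ ψ} h => InertiaObj.hom_ext (congrArg (fun m => m.hom.fst) h)⟩
  have : (toDiagSq f).toFunctor.Full := ⟨fun {a b} m => by
    have w2 : m.hom.fst ≫ 𝟙 b.pt = 𝟙 a.pt ≫ m.hom.snd := congrArg (fun m => m.hom.snd) m.hom.w
    have e : m.hom.fst = m.hom.snd :=
      (Category.comp_id _).symm.trans (w2.trans (Category.id_comp _))
    have w1 : m.hom.fst ≫ b.aut.hom = a.aut.hom ≫ m.hom.snd := congrArg (fun m => m.hom.fst) m.hom.w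
    exact ⟨⟨m.hom.fst, by rw [w1, e]⟩, FibProd.hom_ext rfl e⟩⟩
  refine BasedBasic.isEquivOver_of _ fun η => ?_
  let A : η.obj.fst ≅ η.obj.snd :=
    { hom := η.obj.iso.hom.hom.fst
      inv := η.obj.iso.inv.hom.fst
      hom_inv_id := congrArg (fun m => m.hom.fst) η.obj.iso.hom_inv_id
      inv_hom_id := congrArg (fun m => m.hom.fst) η.obj.iso.inv_hom_id }
  let B : η.obj.fst ≅ η.obj.snd :=
    { hom := η.obj.iso.hom.hom.snd
      inv := η.obj.iso.inv.hom.snd
      hom_inv_id := congrArg (fun m => m.hom.snd) η.obj.iso.hom_inv_id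
      inv_hom_id := congrArg (fun m => m.hom.snd) η.obj.iso.inv_hom_id }
  have w : f.map A.hom ≫ 𝟙 _ = 𝟙 _ ≫ f.map B.hom := η.obj.iso.hom.hom.w
  have hAB : f.map A.hom = f.map B.hom := by simpa using w
  let z : InertiaObj f := ⟨η.obj.fst, A ≪≫ B.symm, by
    change f.map (A.hom ≫ B.inv) = _
    rw [f.toFunctor.map_comp, hAB, ← f.toFunctor.map_comp, B.hom_inv_id]
    exact f.toFunctor.map_id _⟩
  refine ⟨z, ?_⟩
  refine FibProd.exists_iso_over (x := (toDiagSq f).obj z) (y := η) (Iso.refl _) B ?_ (IsHomLift.id rfl)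
  apply ObjectProperty.hom_ext
  refine CategoricalPullback.hom_ext ?_ ?_
  · change 𝟙 _ ≫ A.hom = (A.hom ≫ B.inv) ≫ B.hom
    simp
  · change 𝟙 _ ≫ B.hom = 𝟙 _ ≫ B.hom
    simp

variable {f} {P : MorphismProperty (Sp S)}

theorem inertiaToBase_iff :
    RepByAlgSpWith P (inertiaToBase f) ↔ RepByAlgSpWith P (fpFst (diag f) (diag f)) :=
  (Rep.repByAlgSpWith_iff_of_isEquivOver (f := fpFst (diag f) (diag f)) (f' := inertiaToBase f)
    (isEquivOver_toDiagSq f) BasedBasic.isEquivOver_id (Iso.refl _)).symm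

theorem inertiaToBase_of_diag (h : RepByAlgSpWith P (diag f)) :
    RepByAlgSpWith P (inertiaToBase f) :=
  inertiaToBase_iff.2 (Rep.repByAlgSpWith_fpFst _ h)

theorem inertiaNeutral_iff :
    RepByAlgSpWith P (inertiaNeutral f) ↔ RepByAlgSpWith P (diag (diag f)) :=
  (Rep.repByAlgSpWith_iff_of_isEquivOver (f := diag (diag f)) (f' := inertiaNeutral f)
    BasedBasic.isEquivOver_id (isEquivOver_toDiagSq f)
    (Lib.Fibred.Slice.fpIsoMk (Iso.refl _) (Iso.refl _) fun x => by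
      apply ObjectProperty.hom_ext
      refine CategoricalPullback.hom_ext ?_ ?_
      · change 𝟙 _ ≫ 𝟙 _ = 𝟙 _ ≫ 𝟙 _
        rfl
      · change 𝟙 _ ≫ 𝟙 _ = 𝟙 _ ≫ 𝟙 _
        rfl)).symm

end Cat

/-! ### A morphism with unramified base change along itself -/

theorem locP_of_selfBC {W : MorphismProperty Scheme.{u}}
    (hW : Lib.SourceDescent.Scheme.EtaleLocalST W)
    (hs : ∀ ⦃U T : Scheme.{u}⦄ (m : U ⟶ T), LocallyOfFiniteType m → W (pullback.snd m m) → W m)
    {G : Sp S} {T : Over S} (hG : IsAlgSpace G) (γ : G ⟶ (yon S).obj T)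
    (hl : LocP @LocallyOfFiniteType γ) (h : LocP W (pullback.snd γ γ)) : LocP W γ := by
  obtain ⟨U, c, hc, hcs⟩ := hG.atlas
  obtain ⟨m, hm⟩ := (yon S).map_surjective (c ≫ γ)
  have hml : LocallyOfFiniteType m.left :=
    hl c (𝟙 _) m hc (AlgSp.repWith_id _ _) (by rw [Category.comp_id, hm])
  refine Lib.AlgSpMor.LocP.locP_of_chart hW hG.diag (IsAlgSpace.yon_obj T).diag hc hcs (b := 𝟙 _)
    (h := m) (AlgSp.repWith_id _ _) (by rw [Category.comp_id, hm]) (hs m.left hml ?_)
  obtain ⟨V, fst, snd, sqU⟩ :=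
    Lib.AlgSpace.exists_isPullback_yon (IsAlgSpace.yon_obj T).diag ((yon S).map m) ((yon S).map m)
  let R := pullback γ ((yon S).map m)
  let c₁ : (yon S).obj V ⟶ R :=
    pullback.lift ((yon S).map fst ≫ c) ((yon S).map snd) (by rw [Category.assoc, ← hm, sqU.w])
  have sq₁ : IsPullback ((yon S).map fst) c₁ c (pullback.fst γ ((yon S).map m)) :=
    IsPullback.of_bot (by simpa [c₁, hm] using sqU) (by simp [c₁]) (IsPullback.of_hasPullback _ _)
  let c₂ : R ⟶ pullback γ γ :=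
    pullback.lift (pullback.fst _ _) (pullback.snd _ _ ≫ c)
      (by rw [Category.assoc, ← hm, pullback.condition])
  have sq₂ : IsPullback (pullback.snd γ ((yon S).map m)) c₂ c (pullback.snd γ γ) :=
    IsPullback.of_bot (by simpa [c₂, hm] using (IsPullback.of_hasPullback γ ((yon S).map m)).flip)
      (by simp [c₂]) (IsPullback.of_hasPullback γ γ).flip
  have : MorphismProperty.IsStableUnderComposition (@Etale : MorphismProperty Scheme.{u}) :=
    ⟨fun f g (_ : Etale f) (_ : Etale g) ↦ inferInstanceAs (Etale (f ≫ g))⟩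
  have hV : W snd.left := h (c₁ ≫ c₂) c snd
    (Lib.AlgSpace.repWith_comp (Lib.AlgSpace.repWith_baseChange sq₁ hc)
      (Lib.AlgSpace.repWith_baseChange sq₂ hc)) hc (by simp [c₁, c₂])
  have sqL := (Lib.AlgSpace.isPullback_of_yon_map sqU).map (Over.forget S)
  have := hW.baseChange
  have h' : W (pullback.snd ((Over.forget S).map m) ((Over.forget S).map m)) := by
    rw [← sqL.isoPullback_inv_snd, W.cancel_left_of_respectsIso]
    exact hV
  exact h'

variable {𝒳 𝒴 : AlgSt.Cat S}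

theorem diag_of_inertia {W : MorphismProperty Scheme.{u}}
    (hW : Lib.SourceDescent.Scheme.EtaleLocalST W)
    (hs : ∀ ⦃U T : Scheme.{u}⦄ (m : U ⟶ T), LocallyOfFiniteType m → W (pullback.snd m m) → W m)
    {f : 𝒳 ⥤ᵇ 𝒴} (hl : RepByAlgSpWith (LocP @LocallyOfFiniteType) (diag f))
    (h : RepByAlgSpWith (LocP W) (inertiaToBase f)) : RepByAlgSpWith (LocP W) (diag f) := fun T z => by
  obtain ⟨G, e, he, hγl⟩ := hl T z
  refine ⟨G, e, he, locP_of_selfBC hW hs G.property _ hγl ?_⟩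
  set γ : G.obj ⟶ (yon S).obj T := spMapOfOver (BasedFunctor.comp e (fpFst z (diag f)))
  let g : ofSp G.obj ⥤ᵇ 𝒳 := BasedFunctor.comp e (fpSnd z (diag f))
  let Φ : ofSp G.obj ⥤ᵇ overCat T := BasedFunctor.comp e (fpFst z (diag f))
  let α : BasedFunctor.comp g (diag f) ≅ BasedFunctor.comp Φ z :=
    (BasedBasic.isoWhiskerLeft e (fpIso z (diag f))).symm
  have hA := Rep.repByAlgSpWith_fpFst g (inertiaToBase_iff.1 h)
  have hB : RepByAlgSpWith (LocP W) (fpFst (BasedFunctor.comp g (diag f)) (diag f)) :=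
    (Rep.repByAlgSpWith_iff_of_isEquivOver (f := fpFst (BasedFunctor.comp g (diag f)) (diag f))
      (f' := fpFst g (fpFst (diag f) (diag f)))
      (Rep.isEquivOver_pasteBase g (diag f) (diag f)) BasedBasic.isEquivOver_id
      (eqToIso (Rep.pasteBase_fst g (diag f) (diag f)).symm)).2 hA
  have hC : RepByAlgSpWith (LocP W) (fpFst (BasedFunctor.comp Φ z) (diag f)) :=
    (Rep.repByAlgSpWith_iff_of_isEquivOver (f := fpFst (BasedFunctor.comp Φ z) (diag f))
      (f' := fpFst (BasedFunctor.comp g (diag f)) (diag f))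
      (FibProd.isEquivOver_congrLeft α (diag f)) BasedBasic.isEquivOver_id
      (eqToIso (FibProd.congrLeft_fst α (diag f)).symm)).2 hB
  have hD : RepByAlgSpWith (LocP W) (fpFst Φ (fpFst z (diag f))) :=
    (Rep.repByAlgSpWith_iff_of_isEquivOver (f := fpFst (BasedFunctor.comp Φ z) (diag f))
      (f' := fpFst Φ (fpFst z (diag f)))
      (Rep.isEquivOver_pasteBase Φ z (diag f)) BasedBasic.isEquivOver_id
      (eqToIso (Rep.pasteBase_fst Φ z (diag f)).symm)).1 hC
  have := BasedBasic.IsEquivOver.full (Rep.isEquivOver_toOverCat T)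
  have := BasedBasic.IsEquivOver.faithful (Rep.isEquivOver_toOverCat T)
  have sq := IsPullback.of_hasPullback γ γ
  have h1 := Space.isEquivOver_sqLift (sq.map (sheafToPresheaf _ _)).flip
  have h2 := FibProd.isEquivOver_fpMap (BasedFunctor.id (ofSp G.obj)) e (toOverCat T)
    (F := Φ) (G := fpFst z (diag f)) (F' := ofSpMap γ) (G' := ofSpMap γ)
    (Rep.isoSpMapOfOver Φ) (Rep.isoSpMapOfOver Φ) BasedBasic.isEquivOver_id he
  have hE : RepByAlgSpWith (LocP W) (ofSpMap (pullback.snd γ γ)) :=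
    (Rep.repByAlgSpWith_iff_of_isEquivOver (f := fpFst Φ (fpFst z (diag f)))
      (f' := ofSpMap (pullback.snd γ γ)) (BasedBasic.IsEquivOver.comp h1 h2)
      BasedBasic.isEquivOver_id (Iso.refl _)).1 hD
  exact Rep.prop_of_ofSpMap (IsAlgFp.respectsIsoSp_locP hW) (fromSchemes_locP hW)
    (Lib.AlgSpace.isAlgSpace_of_isPullback sq (IsAlgSpace.yon_obj T).diag G.property G.property)
    G.property _ hE

end Groth.Agent.H14.Sep.Inertia

namespace Groth.Agent.H14.Sep.Inertia

open Groth.Agent.Lib.AlgStack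
open SpProps DiagCat Main
open AlgSt (RepByAlgSp1 RepByAlgSpWith IsAlgStack IsClosedImm)
open FibCat (diag inertiaToBase inertiaNeutral)
open AlgSp (LocP RepWith)

variable {S : Scheme.{u}} {𝒳 𝒴 : AlgSt.Cat S} {f : 𝒳 ⥤ᵇ 𝒴}

theorem tfae_separated (hd : RepByAlgSp1 (diag f)) :
    [RepByAlgSpWith AlgSp.IsSeparatedMor (inertiaToBase f),
      RepByAlgSpWith AlgSp.IsSeparatedMor (diag f),
      IsClosedImm (inertiaNeutral f)].TFAE := by
  tfae_have 2 → 1 := fun h => inertiaToBase_of_diag h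
  tfae_have 1 → 3 := fun h =>
    Main.section_of_diag (f := inertiaToBase f) (inertiaNeutral f) (Iso.refl _)
      (Main2.diag_closedImm_of_sep h)
  tfae_have 3 → 2 := fun h => Main3.sep_of_diag_univClosed hd
    (Rep.repByAlgSpWith_mono (inertiaNeutral_iff.1 h) fun _ _ _ _ _ h' =>
      (Main2.isProperMor_of_closedImm h').2.2)
  tfae_finish

theorem tfae_quasiSeparated (hd : RepByAlgSp1 (diag f)) :
    [RepByAlgSpWith AlgSp.IsQuasiSeparatedMor (inertiaToBase f),
      RepByAlgSpWith AlgSp.IsQuasiSeparatedMor (diag f),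
      RepByAlgSpWith AlgSp.IsQuasiCompactMor (inertiaNeutral f)].TFAE := by
  tfae_have 2 → 1 := fun h => inertiaToBase_of_diag h
  tfae_have 1 → 3 := fun h =>
    Main.section_of_diag (f := inertiaToBase f) (inertiaNeutral f) (Iso.refl _)
      (Rep.repByAlgSpWith_mono (Main2.diag_qcqs_of_qs h) fun _ _ _ _ _ h' => h'.1)
  tfae_have 3 → 2 := fun h => Main3.qs_of_diag_qc hd (inertiaNeutral_iff.1 h)
  tfae_finish

theorem unramified_iff (h𝒳 : IsAlgStack Scheme.fppfPrecoverage 𝒳)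
    (h𝒴 : IsAlgStack Scheme.fppfPrecoverage 𝒴) :
    RepByAlgSpWith (LocP (@LocallyOfFiniteType ⊓ @FormallyUnramified)) (inertiaToBase f) ↔
      AlgSt.IsDMMor f :=
  ⟨diag_of_inertia Lib.AlgSpMor.LocP.unramified
    (fun _ _ m hm h => have := hm; ⟨hm, SelfBC.formallyUnramified m h.2⟩)
    (Lft.diag_lft' h𝒳 h𝒴 f), fun h => inertiaToBase_of_diag h⟩

theorem lqf_iff (h𝒳 : IsAlgStack Scheme.fppfPrecoverage 𝒳)
    (h𝒴 : IsAlgStack Scheme.fppfPrecoverage 𝒴) :
    RepByAlgSpWith (LocP (@LocallyQuasiFinite ⊓ @LocallyOfFiniteType)) (inertiaToBase f) ↔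
      AlgSt.IsQuasiDMMor f :=
  ⟨diag_of_inertia Lib.AlgSpMor.LocP.lqfLft
    (fun _ _ m hm h => have := hm; ⟨SelfBC.locallyQuasiFinite m h.1, hm⟩)
    (Lft.diag_lft' h𝒳 h𝒴 f), fun h => inertiaToBase_of_diag h⟩

end Groth.Agent.H14.Sep.Inertia
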