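import Groth.Agent.Lib.AlgStack.Rep
import Groth.Agent.Lib.Fibred.Slice
import Groth.Agent.Lib.Fibred.FpEquiv

/-!
Relative diagonals of functors over a base category as base changes: comparison maps of fibre products,
diagonals of projections, graphs.
-/

set_option autoImplicit false
set_option backward.isDefEq.respectTransparency false
set_option backward.isDefEq.respectTransparency.types false

universe v₆ u₆ v₅ u₅ v₄ u₄ v₃ u₃ v₂ u₂ v u

open CategoryTheory CategoryTheory.Limits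

namespace Groth.Agent.H14.Sep.DiagCat

open Groth.Agent.Lib.AlgStack Groth.Agent.Lib.AlgStack.BasedBasic
open FibCat (IsEquivOver fp fpFst fpSnd fpLift fpIso diag)

variable {C : Type u} [Category.{v} C] {𝒳 : BasedCategory.{v₂, u₂} C} {𝒴 : BasedCategory.{v₃, u₃} C}
  {𝒵 : BasedCategory.{v₄, u₄} C} {𝒯 : BasedCategory.{v₅, u₅} C}

section Cmp

variable (f : 𝒳 ⥤ᵇ 𝒵) (g : 𝒴 ⥤ᵇ 𝒵) (t : 𝒵 ⥤ᵇ 𝒯)

/-- The comparison functor `𝒳 ×_𝒵 𝒴 ⟶ 𝒳 ×_𝒯 𝒴`. -/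
abbrev cmp : fp f g ⥤ᵇ fp (BasedFunctor.comp f t) (BasedFunctor.comp g t) :=
  fpLift (fpFst f g) (fpSnd f g) (BasedBasic.isoWhiskerRight (fpIso f g) t)

/-- The functor along which the comparison is a base change of the diagonal. -/
abbrev cmpBase : fp (BasedFunctor.comp f t) (BasedFunctor.comp g t) ⥤ᵇ fp t t :=
  fpLift (BasedFunctor.comp (fpFst (BasedFunctor.comp f t) (BasedFunctor.comp g t)) f)
    (BasedFunctor.comp (fpSnd (BasedFunctor.comp f t) (BasedFunctor.comp g t)) g)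
    (fpIso (BasedFunctor.comp f t) (BasedFunctor.comp g t))

/-- The square exhibiting the comparison as a base change of the diagonal. -/
abbrev cmpSq : BasedFunctor.comp (cmp f g t) (cmpBase f g t) ≅
    BasedFunctor.comp (BasedFunctor.comp (fpSnd f g) g) (diag t) :=
  Lib.Fibred.Slice.fpIsoMk (fpIso f g) (Iso.refl _) (fun w => by
    change t.map w.obj.iso.hom ≫ 𝟙 _ = t.map w.obj.iso.hom ≫ t.map (𝟙 _)
    simp)

/-- The functor to the base change. -/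
abbrev cmpToBase : fp f g ⥤ᵇ fp (cmpBase f g t) (diag t) :=
  fpLift (cmp f g t) (BasedFunctor.comp (fpSnd f g) g) (cmpSq f g t)

theorem isEquivOver_cmpToBase : IsEquivOver (cmpToBase f g t) := by
  have : (cmpToBase f g t).toFunctor.Faithful := ⟨fun {a b φ ψ} h =>
    FibProd.hom_ext (congrArg (fun m => m.hom.fst.hom.fst) h) (congrArg (fun m => m.hom.fst.hom.snd) h)⟩
  have : (cmpToBase f g t).toFunctor.Full := ⟨fun {a b} m => by
    have w1 : f.map m.hom.fst.hom.fst ≫ b.obj.iso.hom = a.obj.iso.hom ≫ m.hom.snd :=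
      congrArg (fun k => k.hom.fst) m.hom.w
    have w2 : g.map m.hom.fst.hom.snd ≫ 𝟙 _ = 𝟙 _ ≫ m.hom.snd :=
      congrArg (fun k => k.hom.snd) m.hom.w
    rw [Category.comp_id, Category.id_comp] at w2
    refine ⟨FibProd.homMk m.hom.fst.hom.fst m.hom.fst.hom.snd (by rw [w1, w2]),
      FibProd.hom_ext (FibProd.hom_ext rfl rfl) w2⟩⟩
  refine isEquivOver_of _ fun η => ?_
  obtain ⟨⟨z, z₀, θ⟩, hθ⟩ := η
  let T := 𝒳.p.obj z.obj.fst
  have hθ' : (fp t t).p.IsHomLift (𝟙 T) θ.hom := hθ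
  let θ₁ : f.obj z.obj.fst ≅ z₀ := ((fpFst t t).toFunctor.mapIso θ :)
  let θ₂ : g.obj z.obj.snd ≅ z₀ := ((fpSnd t t).toFunctor.mapIso θ :)
  have h₁ : 𝒵.p.IsHomLift (𝟙 T) θ₁.hom :=
    BasedFunctor.preserves_isHomLift (fpFst t t) (𝟙 T) θ.hom
  have h₂ : 𝒵.p.IsHomLift (𝟙 T) θ₂.hom :=
    BasedFunctor.preserves_isHomLift (fpSnd t t) (𝟙 T) θ.hom
  have h₂' : 𝒵.p.IsHomLift (𝟙 T) θ₂.inv := IsHomLift.lift_id_inv 𝒵.p T θ₂
  have hw : t.map θ₁.hom ≫ 𝟙 _ = z.obj.iso.hom ≫ t.map θ₂.hom := θ.hom.hom.w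
  rw [Category.comp_id] at hw
  let w : (fp f g).obj := FibProd.objMk z.obj.fst z.obj.snd (θ₁ ≪≫ θ₂.symm)
    (by simp only [Iso.trans_hom, Iso.symm_hom]; infer_instance)
  have hz : t.map w.obj.iso.hom = z.obj.iso.hom := by
    change t.map (θ₁.hom ≫ θ₂.inv) = z.obj.iso.hom
    rw [Functor.map_comp, hw, Category.assoc, ← Functor.map_comp, Iso.hom_inv_id, CategoryTheory.Functor.map_id]
    exact Category.comp_id _
  let e₁ : (cmp f g t).obj w ≅ z := Lib.Fibred.Fp.isoMk (Iso.refl _) (Iso.refl _) (by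
    change t.map (f.map (𝟙 _)) ≫ z.obj.iso.hom = t.map w.obj.iso.hom ≫ t.map (g.map (𝟙 _))
    simp [hz]
    try exact (Category.comp_id _).symm)
  refine ⟨w, FibProd.exists_iso_over (x := (cmpToBase f g t).obj w) (y := ⟨⟨z, z₀, θ⟩, hθ⟩) e₁ θ₂ ?_
    (Lib.Fibred.FpEquiv.isHomLift_isoMk (z := (cmp f g t).obj w) (w := z) (Iso.refl _) (Iso.refl _) _
      (IsHomLift.id rfl))⟩
  apply FibProd.hom_ext
  · change f.map (𝟙 _) ≫ θ₁.hom = (θ₁.hom ≫ θ₂.inv) ≫ θ₂.hom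
    simp
  · change g.map (𝟙 _) ≫ θ₂.hom = 𝟙 _ ≫ θ₂.hom
    simp

end Cmp

section Graph

variable {p : 𝒳 ⥤ᵇ 𝒯} {q : 𝒴 ⥤ᵇ 𝒯} (g : 𝒳 ⥤ᵇ 𝒴)
  (e : BasedFunctor.comp (BasedFunctor.id 𝒳) p ≅ BasedFunctor.comp g q)

/-- The graph of a functor over a third one. -/
abbrev graph : 𝒳 ⥤ᵇ fp p q := fpLift (BasedFunctor.id 𝒳) g e

theorem inv_hom_id_app (x : 𝒳.obj) : (appIso e x).inv ≫ (appIso e x).hom = 𝟙 _ :=
  (appIso e x).inv_hom_id

/-- The functor along which the graph is a base change of the diagonal. -/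
abbrev graphBase : fp p q ⥤ᵇ fp q q :=
  FibProd.fpMap g (BasedFunctor.id 𝒴) (BasedFunctor.id 𝒯) e.symm (Iso.refl _)

/-- The square exhibiting the graph as a base change of the diagonal. -/
abbrev graphSq : BasedFunctor.comp (graph g e) (graphBase g e) ≅ BasedFunctor.comp g (diag q) :=
  Lib.Fibred.Slice.fpIsoMk (Iso.refl g) (Iso.refl g) (fun x => by
    change q.map (𝟙 (g.obj x)) ≫ 𝟙 _ =
      ((appIso e x).inv ≫ (appIso e x).hom ≫ 𝟙 _) ≫ q.map (𝟙 (g.obj x))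
    rw [Category.comp_id, Category.comp_id, CategoryTheory.Functor.map_id, inv_hom_id_app]
    exact (Category.comp_id _).symm)

/-- The functor to the base change. -/
abbrev graphToBase : 𝒳 ⥤ᵇ fp (graphBase g e) (diag q) := fpLift (graph g e) g (graphSq g e)

theorem isEquivOver_graphToBase : IsEquivOver (graphToBase g e) := by
  have : (graphToBase g e).toFunctor.Faithful :=
    ⟨fun {a b φ ψ} h => congrArg (fun m => m.hom.fst.hom.fst) h⟩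
  have : (graphToBase g e).toFunctor.Full := ⟨fun {a b} m => by
    have w1 : g.map m.hom.fst.hom.fst ≫ 𝟙 _ = 𝟙 _ ≫ m.hom.snd :=
      congrArg (fun k => k.hom.fst) m.hom.w
    have w2 : m.hom.fst.hom.snd ≫ 𝟙 _ = 𝟙 _ ≫ m.hom.snd :=
      congrArg (fun k => k.hom.snd) m.hom.w
    rw [Category.comp_id, Category.id_comp] at w1 w2
    exact ⟨m.hom.fst.hom.fst, FibProd.hom_ext (FibProd.hom_ext rfl (w1.trans w2.symm)) w1⟩⟩
  refine isEquivOver_of _ fun η => ?_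
  obtain ⟨⟨z, y₀, θ⟩, hθ⟩ := η
  let θ₁ : g.obj z.obj.fst ≅ y₀ := ((fpFst q q).toFunctor.mapIso θ :)
  let θ₂ : z.obj.snd ≅ y₀ := ((fpSnd q q).toFunctor.mapIso θ :)
  have hw : q.map θ₁.hom ≫ 𝟙 _ =
      ((appIso e z.obj.fst).inv ≫ z.obj.iso.hom ≫ 𝟙 _) ≫ q.map θ₂.hom := θ.hom.hom.w
  let e₁ : (graph g e).obj z.obj.fst ≅ z := Lib.Fibred.Fp.isoMk (Iso.refl _) (θ₁ ≪≫ θ₂.symm) (by
    change p.map (𝟙 _) ≫ z.obj.iso.hom = (appIso e z.obj.fst).hom ≫ q.map (θ₁.hom ≫ θ₂.inv)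
    rw [Category.comp_id, Category.comp_id] at hw
    rw [CategoryTheory.Functor.map_id, Category.id_comp, Functor.map_comp, hw, Category.assoc,
      Category.assoc, ← Functor.map_comp, Iso.hom_inv_id, CategoryTheory.Functor.map_id]
    erw [Category.comp_id]
    exact ((appIso e z.obj.fst).hom_inv_id_assoc _).symm)
  refine ⟨z.obj.fst, FibProd.exists_iso_over (x := (graphToBase g e).obj z.obj.fst)
    (y := ⟨⟨z, y₀, θ⟩, hθ⟩) e₁ θ₁ ?_
    (Lib.Fibred.FpEquiv.isHomLift_isoMk (z := (graph g e).obj z.obj.fst) (w := z) (Iso.refl _)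
      (θ₁ ≪≫ θ₂.symm) _ (IsHomLift.id rfl))⟩
  apply FibProd.hom_ext
  · change g.map (𝟙 _) ≫ θ₁.hom = 𝟙 _ ≫ θ₁.hom
    simp
  · change (θ₁.hom ≫ θ₂.inv) ≫ θ₂.hom = 𝟙 _ ≫ θ₁.hom
    simp

end Graph

section Proj

variable (f : 𝒳 ⥤ᵇ 𝒵) (g : 𝒴 ⥤ᵇ 𝒵)

/-- The functor along which the diagonal of a projection is a base change of the diagonal. -/
abbrev projBase : fp (fpFst g f) (fpFst g f) ⥤ᵇ fp f f :=
  FibProd.fpMap (fpSnd g f) (fpSnd g f) g (fpIso g f).symm (fpIso g f).symm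

/-- The square exhibiting the diagonal of a projection as a base change of the diagonal. -/
abbrev projSq : BasedFunctor.comp (diag (fpFst g f)) (projBase f g) ≅
    BasedFunctor.comp (fpSnd g f) (diag f) :=
  Lib.Fibred.Slice.fpIsoMk (Iso.refl _) (Iso.refl _) (fun w => by
    change f.map (𝟙 _) ≫ 𝟙 _ = (w.obj.iso.inv ≫ g.map (𝟙 _) ≫ w.obj.iso.hom) ≫ f.map (𝟙 _)
    simp)

/-- The functor to the base change. -/
abbrev projToBase : fp g f ⥤ᵇ fp (projBase f g) (diag f) :=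
  fpLift (diag (fpFst g f)) (fpSnd g f) (projSq f g)

theorem isEquivOver_projToBase : IsEquivOver (projToBase f g) := by
  have : (projToBase f g).toFunctor.Faithful :=
    ⟨fun {a b φ ψ} h => congrArg (fun m => m.hom.fst.hom.fst) h⟩
  have : (projToBase f g).toFunctor.Full := ⟨fun {a b} m => by
    have w0 : m.hom.fst.hom.fst.hom.fst ≫ 𝟙 _ = 𝟙 _ ≫ m.hom.fst.hom.snd.hom.fst :=
      m.hom.fst.hom.w
    have w1 : m.hom.fst.hom.fst.hom.snd ≫ 𝟙 _ = 𝟙 _ ≫ m.hom.snd :=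
      congrArg (fun k => k.hom.fst) m.hom.w
    have w2 : m.hom.fst.hom.snd.hom.snd ≫ 𝟙 _ = 𝟙 _ ≫ m.hom.snd :=
      congrArg (fun k => k.hom.snd) m.hom.w
    rw [Category.comp_id, Category.id_comp] at w0 w1 w2
    exact ⟨m.hom.fst.hom.fst, FibProd.hom_ext (FibProd.hom_ext rfl
      (FibProd.hom_ext w0 (w1.trans w2.symm))) w1⟩⟩
  refine isEquivOver_of _ fun η => ?_
  obtain ⟨⟨z, x₀, θ⟩, hθ⟩ := η
  let σ : z.obj.fst.obj.fst ≅ z.obj.snd.obj.fst := z.obj.iso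
  let θ₁ : z.obj.fst.obj.snd ≅ x₀ := ((fpFst f f).toFunctor.mapIso θ :)
  let θ₂ : z.obj.snd.obj.snd ≅ x₀ := ((fpSnd f f).toFunctor.mapIso θ :)
  have hw : f.map θ₁.hom ≫ 𝟙 _ = (z.obj.fst.obj.iso.inv ≫ g.map σ.hom ≫ z.obj.snd.obj.iso.hom) ≫
      f.map θ₂.hom := θ.hom.hom.w
  rw [Category.comp_id] at hw
  let s : z.obj.fst ≅ z.obj.snd := Lib.Fibred.Fp.isoMk σ (θ₁ ≪≫ θ₂.symm) (by
    change g.map σ.hom ≫ z.obj.snd.obj.iso.hom = z.obj.fst.obj.iso.hom ≫ f.map (θ₁.hom ≫ θ₂.inv)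
    rw [Functor.map_comp, hw, Category.assoc, ← Functor.map_comp, Iso.hom_inv_id,
      CategoryTheory.Functor.map_id]
    simp)
  let e₁ : (diag (fpFst g f)).obj z.obj.fst ≅ z := Lib.Fibred.Fp.isoMk (Iso.refl _) s (by
    change 𝟙 z.obj.fst.obj.fst ≫ σ.hom = 𝟙 _ ≫ σ.hom
    rfl)
  refine ⟨z.obj.fst, FibProd.exists_iso_over (x := (projToBase f g).obj z.obj.fst)
    (y := ⟨⟨z, x₀, θ⟩, hθ⟩) e₁ θ₁ ?_
    (Lib.Fibred.FpEquiv.isHomLift_isoMk (z := (diag (fpFst g f)).obj z.obj.fst) (w := z)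
      (Iso.refl _) s _ (IsHomLift.id rfl))⟩
  apply FibProd.hom_ext
  · change 𝟙 _ ≫ θ₁.hom = 𝟙 _ ≫ θ₁.hom
    rfl
  · change (θ₁.hom ≫ θ₂.inv) ≫ θ₂.hom = 𝟙 _ ≫ θ₁.hom
    simp

end Proj

end Groth.Agent.H14.Sep.DiagCat
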