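import Groth.Agent.H14.Sep.Main2
import Groth.Agent.Lib.AlgSpMor.QC
import Mathlib.AlgebraicGeometry.ZariskisMainTheorem

/-!
Diagonals of functors representable by algebraic spaces: representability by schemes,
criteria for separatedness and quasi-separatedness.
-/

set_option autoImplicit false
set_option backward.isDefEq.respectTransparency false
set_option backward.isDefEq.respectTransparency.types false

universe v₂ w₂ v₁ w₁ u

open CategoryTheory CategoryTheory.Limits AlgebraicGeometry

namespace Groth.Agent.H14.Sep.Main3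

open Groth.Agent.Lib.AlgStack
open SpProps DiagCat Main
open FibCat (IsEquivOver fp fpFst fpSnd fpLift fpIso diag overCat IsFibGrpd toSelf)
open AlgSt (ofSp ofSpMap RepByAlgSp1 RepByAlgSpWith)
open AlgSp (Sp yon IsAlgSpace LocP RepWith Representable)

variable {S : Scheme.{u}}

theorem repWith_closedImm_of_univClosed {G F : Sp S} {m : G ⟶ F}
    (h1 : RepWith (MorphismProperty.monomorphisms Scheme.{u}) m)
    (h2 : RepWith @LocallyOfFiniteType m) (h3 : RepWith @UniversallyClosed m) :
    RepWith @IsClosedImmersion m :=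
  Lib.AlgSpace.repWith_mono
    (Lib.AlgSpace.repWith_inf_iff.2 ⟨Lib.AlgSpace.repWith_inf_iff.2 ⟨h1, h2⟩, h3⟩)
    fun _ _ g hg => by
      obtain ⟨⟨g1, g2⟩, g3⟩ := hg
      have : Mono g := g1
      have := g2
      have := g3
      exact (IsClosedImmersion.iff_isProper_and_mono g).2 ⟨{}, g1⟩

variable {𝒳 : BasedCategory.{v₁, w₁} (Over S)} {𝒴 : BasedCategory.{v₂, w₂} (Over S)}
  {c : 𝒳 ⥤ᵇ 𝒴}

theorem sep_of_diag_univClosed (hc : RepByAlgSp1 c)
    (h : RepByAlgSpWith AlgSp.IsUnivClosedMor (diag c)) :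
    RepByAlgSpWith AlgSp.IsSeparatedMor c := fun U g => by
  obtain ⟨G, e, he⟩ := hc U g
  have h1 := Rep.prop_diagonal_of_diag (stableBC_univSp _) fromSchemes_univClosed h g e he
  exact ⟨G, e, he, repWith_closedImm_of_univClosed
    (SpDiag.repWith_diagonal_monomorphisms _ G.property) (SpDiag.repWith_diagonal_lft _ G.property)
    ((Main2.repWith_universallyClosed_iff (SpDiag.representable_diagonal _ G.property)).2 h1)⟩

theorem qs_of_diag_qc (hc : RepByAlgSp1 c)
    (h : RepByAlgSpWith AlgSp.IsQuasiCompactMor (diag c)) :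
    RepByAlgSpWith AlgSp.IsQuasiSeparatedMor c := fun U g => by
  obtain ⟨G, e, he⟩ := hc U g
  have h1 := Rep.prop_diagonal_of_diag stableBC_qc fromSchemes_qc h g e he
  exact ⟨G, e, he, (Lib.AlgSpMor.QC.repWith_quasiCompact_iff
    (SpDiag.representable_diagonal _ G.property)).2 h1⟩

theorem diag_finiteType_of_qs (hc : RepByAlgSpWith AlgSp.IsQuasiSeparatedMor c) :
    RepByAlgSpWith AlgSp.IsFiniteTypeMor (diag c) :=
  Rep.diag_of_rep (P := AlgSp.IsQuasiSeparatedMor)
    (Q := (LocP @LocallyOfFiniteType ⊓ AlgSp.IsQuasiCompactMor : MorphismProperty (Sp S)))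
    (stableBC_inf (stableBC_locP SpProps.lft) stableBC_qc) hc fun _ _ γ hG _ h =>
    ⟨SpDiag.locP_diagonal_lft γ hG, Lib.AlgSpMor.QC.isQuasiCompactMor_of_repWith h⟩

/-- The diagonal of a functor representable by algebraic spaces is representable by schemes. -/
theorem isRepresentable1_diag (hc : RepByAlgSp1 c) : FibCat.IsRepresentable1 (diag c) := fun U y => by
  obtain ⟨F, e, he, hF⟩ := Rep.diag_of_rep1 (Q := RepWith (⊤ : MorphismProperty Scheme.{u}))
    (SpProps2.stableBC_repWith _) hc (fun _ _ γ hG _ =>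
      Lib.AlgSpace.repWith_mono (SpDiag.repWith_diagonal_lft γ hG) fun _ _ _ _ => trivial) U y
  obtain ⟨V, g, fst, sq, -⟩ := Lib.AlgSpace.repWith_exists hF (𝟙 ((yon S).obj U))
  have : IsIso fst := sq.isIso_fst_of_isIso
  obtain ⟨b, hb, -⟩ := BasedBasic.IsEquivOver.exists_inverse (Space.isEquivOver_ofSpMap fst)
  obtain ⟨e', he', -⟩ := BasedBasic.IsEquivOver.exists_inverse he
  exact ⟨V, BasedFunctor.comp e' (BasedFunctor.comp b (AlgSt.toOverCat V)),
    BasedBasic.IsEquivOver.comp he' (BasedBasic.IsEquivOver.comp hb (Rep.isEquivOver_toOverCat V))⟩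

end Groth.Agent.H14.Sep.Main3
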